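import Groth.Agent.SitePull.HomVan
import Groth.Agent.PullFlat.Exact
import Groth.Agent.ModShf.GrothAb
import Groth.Prelude.Def_SiteCmp

/-!
# Cohomology sheaves of derived limits of systems which stabilise on the members of good coverings
-/

set_option autoImplicit false
set_option linter.style.haveILetI false

universe w u

open CategoryTheory CategoryTheory.Limits Opposite ModSite DerivedCategory

namespace Groth.Agent.SitePull

open Groth.Agent.KFlat Groth.Agent.PullFlat
open Groth.Agent.ModFlat (rs map_val_comp)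

variable {C : Type u} [SmallCategory C] {J : GrothendieckTopology C} {O : Sheaf J CommRingCat.{u}}

theorem freeUEquiv_comp_appS (U : C) {M N : Mod O} (φ : freeU O U ⟶ M) (ψ : M ⟶ N) :
    freeUEquiv U N (φ ≫ ψ) = appS ψ U (freeUEquiv U M φ) :=
  freeUEquiv_comp U φ ψ

theorem freeUEquiv_zero (U : C) (M : Mod O) : freeUEquiv U M (0 : freeU O U ⟶ M) = 0 := by
  have h := freeUEquiv_comp_appS U (0 : freeU O U ⟶ freeU O U) (0 : freeU O U ⟶ M)
  rwa [zero_comp] at h

/-- The map of free modules given by an arrow. -/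
noncomputable def gmap {V W : C} (g : W ⟶ V) : freeU O W ⟶ freeU O V :=
  (freeUEquiv W _).symm (rs _ g (freeUEquiv V _ (𝟙 (freeU O V))))

theorem gmap_comp {V W : C} (g : W ⟶ V) {M : Mod O} (φ : freeU O V ⟶ M) :
    freeUEquiv W M (gmap g ≫ φ) = rs M g (freeUEquiv V M φ) := by
  rw [freeUEquiv_comp_appS, gmap, Equiv.apply_symm_apply, appS_res, ← freeUEquiv_comp_appS, Category.id_comp]

theorem exists_cover_lift {V : C} {P' P : Mod O} (π : P' ⟶ P) [Epi π] (φ : freeU O V ⟶ P) :
    ∃ S ∈ J V, ∀ ⦃W : C⦄ (g : W ⟶ V), S g → ∃ l : freeU O W ⟶ P', l ≫ π = gmap g ≫ φ := by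
  obtain ⟨S, hS, h⟩ := exists_local_lift π (freeUEquiv V P φ)
  refine ⟨S, hS, fun W g hg => ?_⟩
  obtain ⟨y, hy⟩ := h g hg
  refine ⟨(freeUEquiv W P').symm y, (freeUEquiv W P).injective ?_⟩
  rw [freeUEquiv_comp_appS, Equiv.apply_symm_apply, gmap_comp, hy]

theorem epi_of_locally_surjective {M N : Mod O} (φ : M ⟶ N)
    (h : ∀ (V : C) (x : sect N V), ∃ S ∈ J V, ∀ ⦃W : C⦄ (g : W ⟶ V), S g → ∃ y, appS φ W y = rs N g x) :
    Epi φ :=
  Preadditive.epi_of_cancel_zero _ fun {T} t ht => SheafOfModules.hom_ext (PresheafOfModules.hom_ext fun U =>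
    ModuleCat.hom_ext (LinearMap.ext fun x => by
      obtain ⟨S, hS, h'⟩ := h U.unop x
      refine eq_zero_of_locally T hS (appS t U.unop x) fun W g hg => ?_
      obtain ⟨y, hy⟩ := h' g hg
      rw [← appS_res, ← hy, ← appS_comp, ht, appS_zero]))

variable [HasDerivedCategory.{w} (Mod O)]

/-- A section of a cohomology sheaf is locally a map out of a shifted free module. -/
theorem exists_cover_hom (M : DerivedCategory (Mod O)) (m : ℤ) {V : C}
    (x : sect ((homologyFunctor (Mod O) m).obj M) V) :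
    ∃ S ∈ J V, ∀ ⦃W : C⦄ (g : W ⟶ V), S g → ∃ y : (singleFunctor (Mod O) m).obj (freeU O W) ⟶ M,
      freeUEquiv W _ (TruncHom.Φ (freeU O W) m M y) = rs _ g x := by
  obtain ⟨Z, q, hq, hlift⟩ := DerivedLimit.exists_epi_lifts M m
  obtain ⟨S, hS, h⟩ := exists_cover_lift q ((freeUEquiv V _).symm x)
  refine ⟨S, hS, fun W g hg => ?_⟩
  obtain ⟨l, hl⟩ := h g hg
  obtain ⟨y, hy⟩ := hlift (freeU O W) l
  exact ⟨y, by rw [hy, hl, gmap_comp, Equiv.apply_symm_apply]⟩

/-- A map out of a shifted free module which is zero in cohomology is locally zero. -/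
theorem exists_cover_zero {M : DerivedCategory (Mod O)} {m : ℤ} {V : C}
    (y : (singleFunctor (Mod O) m).obj (freeU O V) ⟶ M) (hy : TruncHom.Φ (freeU O V) m M y = 0) :
    ∃ S ∈ J V, ∀ ⦃W : C⦄ (g : W ⟶ V), S g → (singleFunctor (Mod O) m).map (gmap g) ≫ y = 0 := by
  obtain ⟨P', π, hπ, h0⟩ := exists_refine_zero y hy
  obtain ⟨S, hS, h⟩ := exists_cover_lift π (𝟙 (freeU O V))
  refine ⟨S, hS, fun W g hg => ?_⟩
  obtain ⟨l, hl⟩ := h g hg
  rw [Category.comp_id] at hl
  rw [← hl, Functor.map_comp]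
  exact (Category.assoc _ _ _).trans ((congrArg (_ ≫ ·) h0).trans comp_zero)

theorem Φ_map_comp {M : DerivedCategory (Mod O)} {m : ℤ} {V W : C} (g : W ⟶ V)
    (y : (singleFunctor (Mod O) m).obj (freeU O V) ⟶ M) :
    TruncHom.Φ (freeU O W) m M ((singleFunctor (Mod O) m).map (gmap g) ≫ y) =
      gmap g ≫ TruncHom.Φ (freeU O V) m M y := by
  rw [TruncHom.Φ_apply, TruncHom.Φ_apply, Functor.map_comp, ← Category.assoc, ← Category.assoc]
  exact congrArg (· ≫ _) ((singleFunctorCompHomologyFunctorIso (Mod O) m).inv.naturality (gmap g)).symm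

variable {K : ℕ → DerivedCategory (Mod O)} {t : ∀ n, K (n + 1) ⟶ K n} [HasProduct K]
  {L : DerivedCategory (Mod O)} {a : ∀ n, L ⟶ K n}

/-- Maps `G[-m] ⟶ K n` stabilise from `N` on, and surject one degree below. -/
def StableAt (t : ∀ n, K (n + 1) ⟶ K n) (G : Mod O) (m : ℤ) (N : ℕ) : Prop :=
  ∀ n, N ≤ n →
    (Function.Bijective fun y : (singleFunctor (Mod O) m).obj G ⟶ K (n + 1) => y ≫ t n) ∧
    (Function.Surjective fun y : (singleFunctor (Mod O) (m - 1)).obj G ⟶ K (n + 1) => y ≫ t n)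

omit [HasProduct K] in
theorem StableAt.mono {G : Mod O} {m : ℤ} {N N' : ℕ} (h : StableAt t G m N) (hN : N ≤ N') :
    StableAt t G m N' := fun n hn => h n (hN.trans hn)

theorem eq_zero_of_stage (hL : CohCx.IsRlimVia K t L a) {G : Mod O} {m : ℤ} {N : ℕ} (h : StableAt t G m N)
    (y : (singleFunctor (Mod O) m).obj G ⟶ L) (hy : y ≫ a N = 0) : y = 0 := by
  refine eq_zero_of_rlim hL N (fun n hn f => ?_) y fun n => ?_
  · obtain ⟨x, hx⟩ := (h n hn).2 ((shiftSingle G m).inv ≫ f)
    refine ⟨(shiftSingle G m).hom ≫ x, ?_⟩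
    change ((shiftSingle G m).hom ≫ x) ≫ t n = f
    rw [Category.assoc, show x ≫ t n = _ from hx, Iso.hom_inv_id_assoc]
  · rcases le_total n N with hn | hn
    · refine Nat.decreasingInduction (fun k _ hk => ?_) hy hn
      rw [← comp_transition hL k, ← Category.assoc, hk, zero_comp]
    · induction n, hn using Nat.le_induction with
      | base => exact hy
      | succ k hk ih =>
        refine (h k hk).1.1 ?_
        change (y ≫ a (k + 1)) ≫ t k = 0 ≫ t k
        rw [Category.assoc, comp_transition hL k, ih, zero_comp]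

theorem exists_lift_of_stage (hL : CohCx.IsRlimVia K t L a) {G : Mod O} {m : ℤ} {N : ℕ} (h : StableAt t G m N)
    (y : (singleFunctor (Mod O) m).obj G ⟶ K N) : ∃ z, z ≫ a N = y := by
  obtain ⟨x, hx, hc⟩ := exists_compatible K t N (fun n hn => (h n hn).1.2) y
  obtain ⟨z, hz⟩ := exists_lift_rlim hL x hc
  exact ⟨z, (hz N).trans hx⟩

/-- Cohomology sheaves of a derived limit of a system stabilising on good coverings. -/
theorem isIso_H_rlim (hL : CohCx.IsRlimVia K t L a) (m : ℤ) (B : Set C)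
    (hB : ∀ U : C, ∃ (ι : Type u) (Y : ι → C) (g : ∀ i, Y i ⟶ U), Sieve.ofArrows Y g ∈ J U ∧ ∀ i, Y i ∈ B)
    (n₀ : ℕ) (hH : ∀ n, n₀ ≤ n → IsIso ((homologyFunctor (Mod O) m).map (t n)))
    (h : ∀ V ∈ B, ∃ N : ℕ, ∀ T ∈ J V, ∃ (ι : Type u) (Y : ι → C) (g : ∀ i, Y i ⟶ V),
      (∀ i, T.arrows (g i)) ∧ Sieve.ofArrows Y g ∈ J V ∧ ∀ i, StableAt t (freeU O (Y i)) m N)
    (n : ℕ) (hn : n₀ ≤ n) : IsIso ((homologyFunctor (Mod O) m).map (a n)) := by
  let H := homologyFunctor (Mod O) m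
  have hup : ∀ N, n ≤ N → ∀ {V : C} (x : sect (H.obj L) V), appS (H.map (a n)) V x = 0 →
      appS (H.map (a N)) V x = 0 := fun N hN V x hx => by
    induction N, hN using Nat.le_induction with
    | base => exact hx
    | succ k hk ih =>
      have := hH k (hn.trans hk)
      have : Mono (H.map (t k)) := inferInstance
      refine appS_injective (H.map (t k)) V ?_
      rw [map_zero, ← appS_comp, ← Functor.map_comp, comp_transition hL k, ih]
  have hmono : Mono (H.map (a n)) := mono_of_appS_injective _ fun U x hx => by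
    obtain ⟨ι, Y, f, hf, hfB⟩ := hB U
    refine eq_zero_of_locally _ hf x fun W g hg => ?_
    obtain ⟨i, b, rfl⟩ := (Sieve.mem_ofArrows_iff _ _ g).1 hg
    suffices hi : rs _ (f i) x = 0 by rw [map_val_comp, hi, map_zero]
    have hxi : appS (H.map (a n)) (Y i) (rs _ (f i) x) = 0 := by rw [appS_res, hx, map_zero]
    obtain ⟨N₁, hN₁⟩ := h (Y i) (hfB i)
    let N := max N₁ n
    have hxN := hup N (le_max_right _ _) _ hxi
    obtain ⟨S, hS, hS'⟩ := exists_cover_hom L m (rs _ (f i) x)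
    obtain ⟨T, hT, hT'⟩ := exists_cover_bind (J := J) (fun W g => ∃ y : (singleFunctor (Mod O) m).obj (freeU O W) ⟶ L,
        freeUEquiv W _ (TruncHom.Φ (freeU O W) m L y) = rs _ g (rs _ (f i) x) ∧ y ≫ a N = 0) hS
      fun W g hg => by
        obtain ⟨y, hy⟩ := hS' g hg
        have h0 : TruncHom.Φ (freeU O W) m (K N) (y ≫ a N) = 0 := by
          apply (freeUEquiv W _).injective
          rw [TruncHom.Φ_comp, freeUEquiv_comp_appS, hy, appS_res, hxN, map_zero]
          exact (freeUEquiv_zero W _).symm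
        obtain ⟨T, hT, hT'⟩ := exists_cover_zero _ h0
        refine ⟨T, hT, fun W' g' hg' => ⟨(singleFunctor (Mod O) m).map (gmap g') ≫ y, ?_, ?_⟩⟩
        · rw [Φ_map_comp, gmap_comp, hy, ← map_val_comp]
        · rw [Category.assoc]
          exact hT' g' hg'
    obtain ⟨κ, Z, k, hk, hkJ, hkst⟩ := hN₁ T hT
    refine eq_zero_of_locally _ hkJ _ fun W g hg => ?_
    obtain ⟨j, b', rfl⟩ := (Sieve.mem_ofArrows_iff _ _ g).1 hg
    obtain ⟨y, hy, hy0⟩ := hT' (k j) (hk j)
    have hy' : y = 0 := eq_zero_of_stage hL ((hkst j).mono (le_max_left _ _)) y hy0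
    rw [map_val_comp, ← hy, hy', map_zero, freeUEquiv_zero, map_zero]
  have hepi : Epi (H.map (a n)) := epi_of_locally_surjective _ fun U x => by
    obtain ⟨ι, Y, f, hf, hfB⟩ := hB U
    obtain ⟨S, hS, hS'⟩ := exists_cover_bind (J := J)
      (fun W g => ∃ y, appS (H.map (a n)) W y = rs _ g x) hf fun W g hg => by
      obtain ⟨i, b, rfl⟩ := (Sieve.mem_ofArrows_iff _ _ g).1 hg
      obtain ⟨N₁, hN₁⟩ := h (Y i) (hfB i)
      let N := max N₁ n
      have hiter : ∀ M, n ≤ M → ∃ x' : sect (H.obj (K M)) (Y i), ∀ {W : C} (g : W ⟶ Y i) (z : sect (H.obj L) W),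
          appS (H.map (a M)) W z = rs _ g x' → appS (H.map (a n)) W z = rs _ g (rs _ (f i) x) := fun M hM => by
        induction M, hM using Nat.le_induction with
        | base => exact ⟨rs _ (f i) x, fun _ _ hz => hz⟩
        | succ k hk ih =>
          obtain ⟨x', hx'⟩ := ih
          have := hH k (hn.trans hk)
          refine ⟨appS (inv (H.map (t k))) _ x', fun g z hz => hx' g z ?_⟩
          rw [← comp_transition hL k, Functor.map_comp, appS_comp, hz, ← appS_res, ← appS_comp,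
            IsIso.inv_hom_id]
          rfl
      obtain ⟨x', hx'⟩ := hiter N (le_max_right _ _)
      obtain ⟨S, hS, hS'⟩ := exists_cover_hom (K N) m x'
      obtain ⟨κ, Z, k, hk, hkJ, hkst⟩ := hN₁ S hS
      refine ⟨Sieve.pullback b (Sieve.ofArrows Z k), J.pullback_stable b hkJ, fun W' g' hg' => ?_⟩
      obtain ⟨j, b', hb'⟩ := (Sieve.mem_ofArrows_iff _ _ _).1 hg'
      obtain ⟨y, hy⟩ := hS' (k j) (hk j)
      obtain ⟨z, hz⟩ := exists_lift_of_stage hL ((hkst j).mono (le_max_left _ _)) y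
      refine ⟨rs _ b' (freeUEquiv (Z j) _ (TruncHom.Φ (freeU O (Z j)) m L z)), ?_⟩
      have h1 : appS (H.map (a N)) (Z j) (freeUEquiv (Z j) _ (TruncHom.Φ (freeU O (Z j)) m L z)) =
          rs _ (k j) x' := by
        rw [← freeUEquiv_comp_appS, ← TruncHom.Φ_comp, hz, hy]
      rw [appS_res, hx' (k j) _ h1, ← map_val_comp, ← map_val_comp, ← Category.assoc, hb']
    exact ⟨S, hS, hS'⟩
  exact isIso_of_mono_of_epi _

end Groth.Agent.SitePull
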