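import Groth.Agent.SitePull.Equiv

/-!
# The unit of `f^* ⊣ Rf_*` on a single module
-/

set_option autoImplicit false
set_option linter.style.haveILetI false

universe u

open CategoryTheory CategoryTheory.Limits Opposite ModSite DerivedCategory Pretriangulated

attribute [local instance] HasDerivedCategory.standard

namespace Groth.Agent.SitePull

open Groth.Agent.KFlat Groth.Agent.PullFlat Groth.Agent.CohDerLib.RFLim
open Groth.Agent.ModFlat (rs)

variable {C D : Type u} [SmallCategory C] [SmallCategory D] {J : GrothendieckTopology C}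
  {K : GrothendieckTopology D} {O_C : Sheaf J CommRingCat.{u}} {O_D : Sheaf K CommRingCat.{u}}

theorem isIso_of_bijective_freeU {M M' : Mod O_D} (g : M ⟶ M')
    (h : ∀ V, Function.Bijective fun φ : freeU O_D V ⟶ M => φ ≫ g) : IsIso g := by
  have hm : Mono g := mono_of_appS_injective g fun V x hx => by
    have h0 : (freeUEquiv V M).symm x ≫ g = 0 ≫ g := by
      rw [zero_comp]
      apply (freeUEquiv V M').injective
      rw [freeUEquiv_comp_appS, Equiv.apply_symm_apply, hx, freeUEquiv_zero]
    have h1 := congrArg (freeUEquiv V M) ((h V).1 h0)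
    rwa [Equiv.apply_symm_apply, freeUEquiv_zero] at h1
  have he : Epi g := epi_of_locally_surjective g fun V x =>
    ⟨⊤, K.top_mem V, fun W b _ => by
      obtain ⟨φ, hφ⟩ := (h W).2 ((freeUEquiv W M').symm (rs _ b x))
      refine ⟨freeUEquiv W M φ, ?_⟩
      have h2 := congrArg (freeUEquiv W M') hφ
      rw [Equiv.apply_symm_apply, freeUEquiv_comp_appS] at h2
      exact h2⟩
  exact isIso_of_mono_of_epi g

/-- Higher cohomology of a derived direct image vanishes when `Ext` out of free modules over a covering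
class vanishes. -/
theorem isZero_H_push (f : RMor O_C O_D) [SiteCmp.HasRpushD f] (B : Set D)
    (hB : ∀ U : D, ∃ (ι : Type u) (Y : ι → D) (g : ∀ i, Y i ⟶ U), Sieve.ofArrows Y g ∈ K U ∧ ∀ i, Y i ∈ B)
    (F : Mod O_C) (i : ℤ) (hi : i ≠ 0)
    (hv : ∀ V ∈ B, ∀ p : ℕ, 0 < p → Subsingleton (ModSite.HU O_C F p (f.fn.obj V))) :
    IsZero ((homologyFunctor (Mod O_D) i).obj ((SiteCmp.RpushD f).obj ((singleFunctor (Mod O_C) 0).obj F))) := by
  rcases lt_or_gt_of_ne hi with hi | hi
  · have := isGE_RF f.push ((singleFunctor (Mod O_C) 0).obj F) 0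
    exact isZero_of_isGE _ 0 i hi
  rw [IsZero.iff_id_eq_zero]
  refine SheafOfModules.hom_ext (PresheafOfModules.hom_ext fun U => ModuleCat.hom_ext (LinearMap.ext fun x => ?_))
  change (x : sect _ U.unop) = 0
  obtain ⟨S, hS, hS'⟩ := exists_cover_hom ((SiteCmp.RpushD f).obj ((singleFunctor (Mod O_C) 0).obj F)) i
    (x : sect _ U.unop)
  obtain ⟨T, hT, hT'⟩ := exists_cover_bind (J := K)
    (fun W g => rs _ g (x : sect _ U.unop) = 0) hS fun W g hg => by
      obtain ⟨ι, Y, k, hk, hkB⟩ := hB W
      refine ⟨Sieve.ofArrows Y k, hk, fun W' g' hg' => ?_⟩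
      obtain ⟨j, b, rfl⟩ := (Sieve.mem_ofArrows_iff _ _ g').1 hg'
      obtain ⟨y, hy⟩ := hS' g hg
      let y' := (singleFunctor (Mod O_D) i).map (gmap (k j)) ≫ y
      have hy' : y' = 0 := by
        have h0 : (homPushEquiv f (Y j) i _).symm y' = 0 := by
          obtain ⟨p, hp⟩ := Int.le.dest hi.le
          exact null_of_HU (f.fn.obj (Y j)) F i 0 p hp (by omega) (hv _ (hkB j) p (by omega)) _
        have h00 : (homPushEquiv f (Y j) i ((singleFunctor (Mod O_C) 0).obj F)).symm 0 = 0 := by
          obtain ⟨p, hp⟩ := Int.le.dest hi.le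
          exact null_of_HU (f.fn.obj (Y j)) F i 0 p hp (by omega) (hv _ (hkB j) p (by omega)) _
        exact (homPushEquiv f (Y j) i _).symm.injective (h0.trans h00.symm)
      have h1 : rs _ (k j) (rs _ g (x : sect _ U.unop)) = 0 := by
        rw [← hy, ← gmap_comp, ← Φ_map_comp]
        change freeUEquiv (Y j) _ (TruncHom.Φ (freeU O_D (Y j)) i _ y') = 0
        rw [hy', map_zero, freeUEquiv_zero]
      rw [Category.assoc, Groth.Agent.ModFlat.map_val_comp, Groth.Agent.ModFlat.map_val_comp, h1, map_zero]
  exact eq_zero_of_locally _ hT _ hT'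

variable (f : RMor O_C O_D) [PreservesFiniteLimits f.pull] [SiteCmp.HasRpushD f]
  (adj : SiteCmp.pullD f ⊣ SiteCmp.RpushD f)

/-- The derived unit at a module is invertible when the module unit is and `Rf_*f^*` has no higher cohomology. -/
theorem isIso_unit_single (W : Mod O_D) [IsIso (f.adj.unit.app W)]
    (hv : ∀ i : ℤ, i ≠ 0 → IsZero ((homologyFunctor (Mod O_D) i).obj ((SiteCmp.RpushD f).obj
      ((singleFunctor (Mod O_C) 0).obj (f.pull.obj W))))) :
    IsIso (adj.unit.app (SiteCmp.inD O_D W)) := by
  let S := (singleFunctor (Mod O_D) 0).obj W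
  let η : S ⟶ (SiteCmp.RpushD f).obj ((SiteCmp.pullD f).obj S) := adj.unit.app S
  let eS : (SiteCmp.pullD f).obj S ≅ (singleFunctor (Mod O_C) 0).obj (f.pull.obj W) :=
    (f.pull.mapDerivedCategorySingleFunctor 0).app W
  change IsIso η
  rw [DerivedCategory.isIso_iff]
  intro i
  rcases ne_or_eq i 0 with hi | rfl
  · refine Limits.isIso_of_isInitial ((?_ : IsZero _).isInitial) ((?_ : IsZero _).isInitial) _
    · rcases lt_or_gt_of_ne hi with h | h
      · exact isZero_of_isGE _ 0 i h
      · exact isZero_of_isLE _ 0 i h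
    · exact (hv i hi).of_iso ((homologyFunctor (Mod O_D) i).mapIso ((SiteCmp.RpushD f).mapIso eS))
  · refine isIso_of_bijective_freeU _ fun V => ?_
    let G := freeU O_D V
    let P := (singleFunctor (Mod O_D) 0).obj G
    let eP := (f.pull.mapDerivedCategorySingleFunctor 0).app G
    have hR : ((SiteCmp.RpushD f).obj ((SiteCmp.pullD f).obj S)).IsGE 0 := by
      have := Groth.Agent.DTrunc.isGE_mapDerivedCategory f.pull S 0
      exact isGE_RF f.push _ 0
    have hb : Function.Bijective fun y : P ⟶ S => y ≫ η := by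
      have h1 : Function.Bijective fun φ : G ⟶ W => f.pull.map φ := by
        have h : Function.Bijective fun φ : G ⟶ W => f.adj.homEquiv G _ (f.pull.map φ) := by
          have : ∀ φ : G ⟶ W, f.adj.homEquiv G _ (f.pull.map φ) = φ ≫ f.adj.unit.app W := fun φ => by
            rw [Adjunction.homEquiv_unit]
            exact (f.adj.unit.naturality φ).symm
          simp only [this]
          exact (asIso (f.adj.unit.app W)).homToEquiv.bijective
        exact Function.Bijective.of_comp_iff' (f.adj.homEquiv G _).bijective _ |>.1 h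
      have h2 : Function.Bijective fun y : P ⟶ S => (SiteCmp.pullD f).map y := by
        have hD : Function.Bijective ((singleFunctor (Mod O_D) 0).map : (G ⟶ W) → (P ⟶ S)) :=
          ⟨(singleFunctor (Mod O_D) 0).map_injective, (singleFunctor (Mod O_D) 0).map_surjective⟩
        have hC : Function.Bijective ((singleFunctor (Mod O_C) 0).map :
            (f.pull.obj G ⟶ f.pull.obj W) → _) :=
          ⟨(singleFunctor (Mod O_C) 0).map_injective, (singleFunctor (Mod O_C) 0).map_surjective⟩
        refine (Function.Bijective.of_comp_iff _ hD).1 ?_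
        have : ((fun y : P ⟶ S => (SiteCmp.pullD f).map y) ∘ (singleFunctor (Mod O_D) 0).map) =
            (eP.symm.homCongr eS.symm) ∘ (singleFunctor (Mod O_C) 0).map ∘ (fun φ : G ⟶ W => f.pull.map φ) := by
          funext φ
          have hn := (f.pull.mapDerivedCategorySingleFunctor 0).hom.naturality φ
          simp only [Function.comp_apply, Iso.homCongr_apply, Iso.symm_hom, Iso.symm_inv, eP, eS, Iso.app_hom,
            Iso.app_inv]
          refine Eq.trans ?_ (Category.assoc _ _ _)
          exact ((Iso.eq_comp_inv ((f.pull.mapDerivedCategorySingleFunctor 0).app W)).2 hn)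
        rw [this]
        exact (Equiv.bijective _).comp (hC.comp h1)
      have : (fun y : P ⟶ S => y ≫ η) = fun y => adj.homEquiv P _ ((SiteCmp.pullD f).map y) := by
        funext y
        rw [Adjunction.homEquiv_unit]
        exact adj.unit.naturality y
      rw [this]
      exact (adj.homEquiv P _).bijective.comp h2
    have hΦS := TruncHom.Φ_bijective_of_isGE_self G 0 S
      (inferInstanceAs (((singleFunctor (Mod O_D) 0).obj W).IsGE 0))
    have hΦR := TruncHom.Φ_bijective_of_isGE_self G 0 _ hR
    refine (Function.Bijective.of_comp_iff _ hΦS).1 ?_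
    have : ((fun φ : G ⟶ (homologyFunctor (Mod O_D) 0).obj S => φ ≫ (homologyFunctor (Mod O_D) 0).map η) ∘
        TruncHom.Φ G 0 S) = TruncHom.Φ G 0 _ ∘ fun y : P ⟶ S => y ≫ η := funext fun y =>
      (TruncHom.Φ_comp G 0 y η).symm
    rw [this]
    exact hΦR.comp hb

end Groth.Agent.SitePull
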