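import Groth.Agent.PullFlat.KFlatPull
import Groth.Agent.PullFlat.Exact
import Groth.Agent.DTrunc.LeftResAdj
import Groth.Agent.ModShf.GrothAb
import Groth.Prelude.Def_SiteCmp

/-!
# The derived inverse image on ringed sites, and `Rf_*` as a right adjoint
-/

set_option autoImplicit false
set_option linter.style.haveILetI false

universe u

open CategoryTheory CategoryTheory.Limits ModSite

attribute [local instance] HasDerivedCategory.standard

namespace Groth.Agent.SitePull

open Groth.Agent.KFlat Groth.Agent.PullFlat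

section

variable {A : Type*} [Category A] [Abelian A] (K : CochainComplex A ℤ)

/-- `0 → Z^n → K^n → Z^(n+1) → 0`. -/
noncomputable def cycSeq (n : ℤ) : ShortComplex A :=
  ShortComplex.mk (K.iCycles n)
    (K.liftCycles (K.d n (n + 1)) (n + 1 + 1) (by simp) (K.d_comp_d _ _ _)) (by
      rw [← cancel_mono (K.iCycles (n + 1)), Category.assoc, K.liftCycles_i, K.iCycles_d, zero_comp])

theorem cycSeq_shortExact (hK : K.Acyclic) (n : ℤ) : (cycSeq K n).ShortExact where
  mono_f := inferInstanceAs (Mono (K.iCycles n))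
  epi_g := Groth.Agent.ModFlat.epi_toCycles K hK n (n + 1) rfl
  exact := by
    rw [ShortComplex.exact_iff_exact_up_to_refinements]
    intro W x hx
    change W ⟶ K.X n at x
    change x ≫ K.liftCycles (K.d n (n + 1)) (n + 1 + 1) (by simp) (K.d_comp_d _ _ _) = 0 at hx
    have hxd : x ≫ K.d n (n + 1) = 0 := by
      rw [← K.liftCycles_i (K.d n (n + 1)) (n + 1 + 1) (by simp) (K.d_comp_d _ _ _), reassoc_of% hx,
        zero_comp]
    refine ⟨W, 𝟙 W, inferInstance, K.liftCycles x (n + 1) (by simp) hxd, ?_⟩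
    exact (Category.id_comp x).trans (K.liftCycles_i _ _ _ _).symm

theorem acyclic_map_of_cycSeq {B : Type*} [Category B] [Abelian B] (T : A ⥤ B) [T.Additive]
    (h : ∀ n, ((cycSeq K n).map T).ShortExact) :
    ((T.mapHomologicalComplex (ComplexShape.up ℤ)).obj K).Acyclic := by
  intro i
  obtain ⟨n, rfl⟩ : ∃ n, n + 1 = i := ⟨i - 1, by omega⟩
  rw [HomologicalComplex.exactAt_iff' _ n (n + 1) (n + 1 + 1) (by simp) (by simp),
    ShortComplex.exact_iff_exact_up_to_refinements]
  intro W y hy
  change W ⟶ T.obj (K.X (n + 1)) at y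
  change y ≫ T.map (K.d (n + 1) (n + 1 + 1)) = 0 at hy
  have hm : Mono (T.map (K.iCycles (n + 1 + 1))) := (h (n + 1 + 1)).mono_f
  have hy' : y ≫ ((cycSeq K (n + 1)).map T).g = 0 := by
    change y ≫ T.map (K.liftCycles (K.d (n + 1) (n + 1 + 1)) (n + 1 + 1 + 1) (by simp) (K.d_comp_d _ _ _)) = 0
    rw [← cancel_mono (T.map (K.iCycles (n + 1 + 1))), Category.assoc, ← T.map_comp, K.liftCycles_i, hy,
      zero_comp]
  have := (h (n + 1)).mono_f
  obtain ⟨W', s, hs, w, hw⟩ := (h (n + 1)).exact.exact_up_to_refinements y hy'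
  change W' ⟶ T.obj (K.cycles (n + 1)) at w
  change s ≫ y = w ≫ T.map (K.iCycles (n + 1)) at hw
  have : Epi (T.map (K.liftCycles (K.d n (n + 1)) (n + 1 + 1) (by simp) (K.d_comp_d _ _ _))) :=
    (h n).epi_g
  obtain ⟨W'', s', hs', v, hv⟩ := surjective_up_to_refinements_of_epi
    (T.map (K.liftCycles (K.d n (n + 1)) (n + 1 + 1) _ (K.d_comp_d _ _ _))) w
  refine ⟨W'', s' ≫ s, epi_comp _ _, v, ?_⟩
  change (s' ≫ s) ≫ y = v ≫ T.map (K.d n (n + 1))
  rw [Category.assoc, hw, reassoc_of% hv, ← T.map_comp, K.liftCycles_i]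

end

variable {C D : Type u} [SmallCategory C] [SmallCategory D] {J : GrothendieckTopology C}
  {K : GrothendieckTopology D} {O_C : Sheaf J CommRingCat.{u}} {O_D : Sheaf K CommRingCat.{u}}
  (f : RMor O_C O_D)

/-- The inverse image of an acyclic K-flat complex of flat modules is acyclic. -/
theorem acyclic_pullCx {P : CochainComplex (Mod O_D) ℤ} (hP : ModSite.IsKFlat P)
    (hfl : ∀ i, TensorMono (P.X i)) (hac : P.Acyclic) :
    HomologicalComplex.Acyclic ((pullCx f).obj P) :=
  acyclic_map_of_cycSeq P f.pull fun n => shortExact_pull f _ (cycSeq_shortExact P hac n)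
    (isFlat_of_tensorMono (Groth.Agent.ModFlat.tensorMono_cycles hac
      (fun F p => Groth.Agent.ModFlat.exact_map_of_isKFlat hP hac F p) hfl (n + 1)))

/-- The inverse image preserves quasi-isomorphisms of K-flat complexes of flat modules. -/
theorem quasiIso_pullCx {P Q : CochainComplex (Mod O_D) ℤ} (s : P ⟶ Q) [QuasiIso s]
    (hP : ModSite.IsKFlat P) (hQ : ModSite.IsKFlat Q) (fP : ∀ i, TensorMono (P.X i))
    (fQ : ∀ i, TensorMono (Q.X i)) : QuasiIso ((pullCx f).map s) := by
  have hX : ∀ i, TensorMono ((CochainComplex.mappingCone s).X i) := fun i => by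
    let e := HomologicalComplex.homotopyCofiber.XIsoBiprod s i (i + 1) rfl
    exact tensorMono_of_retract e.hom e.inv (Iso.hom_inv_id _) (tensorMono_biprod (fP _) (fQ _))
  have h := acyclic_pullCx f (isKFlat_mappingCone s hP hQ) hX (acyclic_mappingCone_of_quasiIso s)
  exact quasiIso_of_acyclic_mappingCone _
    (Groth.Agent.KFlat.acyclic_of_iso (CochainComplex.mappingCone.mapHomologicalComplexIso s f.pull) h)

theorem quasiIso_res_map {P Q : CochainComplex (Mod O_D) ℤ} (s : P ⟶ Q) [hs : QuasiIso s] :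
    QuasiIso ((res O_D).map s) := by
  have h₁ : QuasiIso ((resπ O_D).app P) := quasiIso_resπ P
  have h₂ : QuasiIso ((resπ O_D).app Q) := quasiIso_resπ Q
  have h₃ : QuasiIso ((res O_D).map s ≫ (resπ O_D).app Q) := by
    rw [(resπ O_D).naturality s]
    exact quasiIso_comp (hφ := h₁) (hφ' := hs) ..
  exact quasiIso_of_comp_right ((res O_D).map s) ((resπ O_D).app Q) (hφ := h₂) (hφφ' := h₃)

/-- K-flat resolutions are adapted to the inverse image. -/
theorem resolves : Deriv.Resolves (HomologicalComplex.quasiIso (Mod O_D) (ComplexShape.up ℤ))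
    (res O_D) (resπ O_D) (pullCx f ⋙ DerivedCategory.Q) where
  mem P := (HomologicalComplex.mem_quasiIso_iff _).2 (quasiIso_resπ P)
  inverted P Q s hs := by
    have : QuasiIso s := (HomologicalComplex.mem_quasiIso_iff _).1 hs
    have := @quasiIso_pullCx _ _ _ _ _ _ _ _ f _ _ ((res O_D).map s) (quasiIso_res_map s)
      (isKFlat_res P) (isKFlat_res Q) (tensorMono_res P) (tensorMono_res Q)
    exact inferInstanceAs (IsIso (DerivedCategory.Q.map ((pullCx f).map ((res O_D).map s))))
  fix P := by
    have := quasiIso_pullCx f ((resπ O_D).app ((res O_D).obj P))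
      (isKFlat_res _) (isKFlat_res P) (tensorMono_res _) (tensorMono_res P)
    exact inferInstanceAs (IsIso (DerivedCategory.Q.map ((pullCx f).map _)))

/-- `Rf_*` is a right adjoint (of the derived inverse image). -/
theorem isRightAdjoint_rpushD [SiteCmp.HasRpushD f] : (SiteCmp.RpushD f).IsRightAdjoint :=
  DTrunc.LeftResAdj.isRightAdjoint f.push f.adj (resolves f)

end Groth.Agent.SitePull
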