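import Groth.Prelude.Def_WeakSerre
import Groth.Agent.KFlat.CxAdj
import Groth.Agent.DTrunc.CohIn
import Groth.Agent.DHA.KInjectiveResolution
import Groth.Agent.DHA.KInj.Products
import Mathlib.Algebra.Homology.DerivedCategory.KInjective

/-!
# The derived category of a subcategory with a right adjoint to the inclusion
-/

set_option autoImplicit false

universe w w' v u v' u'

open CategoryTheory CategoryTheory.Limits DerivedCategory

namespace Groth.Agent.SitePull.SubDerived

open Groth.Agent.KFlat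

section Adj

variable {A : Type u} [Category.{v} A] [Abelian A] {B : Type u'} [Category.{v'} B] [Abelian B]
  {L : A ⥤ B} {R : B ⥤ A} [L.Additive] [R.Additive] (adj : L ⊣ R)

/-- A homotopy between adjuncts gives a homotopy. -/
noncomputable def homotopyOfAdjunct {X : CochainComplex A ℤ} {I : CochainComplex B ℤ}
    (g g' : X ⟶ (R.mapHomologicalComplex _).obj I)
    (h : Homotopy (((CxAdj.mapCx adj _).homEquiv X I).symm g) (((CxAdj.mapCx adj _).homEquiv X I).symm g')) :
    Homotopy g g' :=
  (Homotopy.ofEq ((((CxAdj.mapCx adj _).homEquiv X I).apply_symm_apply g).symm.trans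
      (Adjunction.homEquiv_unit _ X I _))).trans
    (((R.mapHomotopy h).compLeft ((CxAdj.mapCx adj _).unit.app X)).trans
      (Homotopy.ofEq ((Adjunction.homEquiv_unit _ X I _).symm.trans
        (((CxAdj.mapCx adj _).homEquiv X I).apply_symm_apply g'))))

theorem isKInjective_right [PreservesFiniteLimits L] [PreservesFiniteColimits L] (adj : L ⊣ R)
    (I : CochainComplex B ℤ) [I.IsKInjective] :
    CochainComplex.IsKInjective ((R.mapHomologicalComplex (ComplexShape.up ℤ)).obj I) where
  nonempty_homotopy_zero {Z} f hZ := by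
    refine ⟨homotopyOfAdjunct adj f 0 ?_⟩
    refine (CochainComplex.IsKInjective.homotopyZero _ fun i => ?_).trans (Homotopy.ofEq ?_)
    · exact (hZ i).map L
    · rw [Adjunction.homEquiv_counit, Functor.map_zero, zero_comp]

end Adj

variable {B : Type u'} [Category.{v'} B] [Abelian B] [IsGrothendieckAbelian.{v'} B]
  [HasDerivedCategory.{w} B] (P : ObjectProperty B) [WSerre.IsWeakSerre P]
  [HasDerivedCategory.{w'} P.FullSubcategory] {T : B ⥤ P.FullSubcategory} [T.Additive] (adj : P.ι ⊣ T)

/-- For complexes of injectives with cohomology in `P` the counit is a quasi-isomorphism. -/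
def CounitQuasiIso : Prop :=
  ∀ I : CochainComplex B ℤ, (∀ n, Injective (I.X n)) → (∀ n, P (I.homology n)) →
    QuasiIso ((CxAdj.mapCx adj (ComplexShape.up ℤ)).counit.app I)

variable {P adj}

omit [IsGrothendieckAbelian.{v'} B] in
theorem bijective_map (X : CochainComplex P.FullSubcategory ℤ) (I : CochainComplex B ℤ) [I.IsKInjective]
    (hI : QuasiIso ((CxAdj.mapCx adj (ComplexShape.up ℤ)).counit.app I)) :
    Function.Bijective ((WSerre.toDerived P).map :
      (Q.obj X ⟶ Q.obj ((T.mapHomologicalComplex (ComplexShape.up ℤ)).obj I)) → _) := by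
  let adjC := CxAdj.mapCx adj (ComplexShape.up ℤ)
  let η := P.ι.mapDerivedCategoryFactors
  have := isKInjective_right adj I
  have : IsIso (Q.map (adjC.counit.app I)) := (isIso_Q_map_iff_quasiIso _ _).2 hI
  have key : ∀ g : X ⟶ (T.mapHomologicalComplex (ComplexShape.up ℤ)).obj I,
      (WSerre.toDerived P).map (Q.map g) ≫ η.hom.app _ ≫ Q.map (adjC.counit.app I) =
        η.hom.app X ≫ Q.map ((adjC.homEquiv X I).symm g) := fun g => by
    have e := η.hom.naturality g
    simp only [Functor.comp_map] at e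
    rw [← Category.assoc, e, Category.assoc, ← Functor.map_comp]
    exact congrArg (fun t => _ ≫ Q.map t) (Adjunction.homEquiv_counit adjC X I g).symm
  have : CochainComplex.IsKInjective ((𝟭 (HomologicalComplex B (ComplexShape.up ℤ))).obj I) := ‹I.IsKInjective›
  constructor
  · intro a b hab
    obtain ⟨g, rfl⟩ := DHA.KInj.Q_map_surjective _ _ a
    obtain ⟨g', rfl⟩ := DHA.KInj.Q_map_surjective _ _ b
    have h := key g
    rw [hab, key g', cancel_epi] at h
    obtain ⟨k⟩ := DHA.KInj.homotopy_of_Q_map_eq h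
    exact DerivedCategory.Q_map_eq_of_homotopy _ (homotopyOfAdjunct adj g g' k.symm)
  · intro f
    obtain ⟨k, hk⟩ := DHA.KInj.Q_map_surjective _ _
      (η.inv.app X ≫ f ≫ η.hom.app _ ≫ Q.map (adjC.counit.app I))
    refine ⟨Q.map (adjC.homEquiv X I k), ?_⟩
    rw [← cancel_mono (η.hom.app _ ≫ Q.map (adjC.counit.app I)), key, Equiv.symm_apply_apply, hk,
      Iso.hom_inv_id_app_assoc]


omit [HasDerivedCategory.{w} B] in
theorem exists_iso (h : CounitQuasiIso P adj) (Y : DerivedCategory P.FullSubcategory) :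
    ∃ I : CochainComplex B ℤ, I.IsKInjective ∧
      QuasiIso ((CxAdj.mapCx adj (ComplexShape.up ℤ)).counit.app I) ∧
      Nonempty (Y ≅ Q.obj ((T.mapHomologicalComplex (ComplexShape.up ℤ)).obj I)) := by
  let adjC := CxAdj.mapCx adj (ComplexShape.up ℤ)
  let Y₀ := Q.objPreimage Y
  obtain ⟨I, j, hI, hj, -, hinj⟩ :=
    DHA.KInj.exists_resolution B ((P.ι.mapHomologicalComplex (ComplexShape.up ℤ)).obj Y₀)
  have hP : ∀ n, P (I.homology n) := fun n =>
    have := hj.quasiIsoAt n
    P.prop_of_iso ((ShortComplex.mapHomologyIso (Y₀.sc n) P.ι).symm ≪≫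
      isoOfQuasiIsoAt j n) (Y₀.homology n).property
  have hc := h I hinj hP
  have hφ : QuasiIso (adjC.homEquiv _ I j) := by
    rw [← HomologicalComplex.quasiIso_map_iff_of_preservesHomology _ P.ι]
    have e : (P.ι.mapHomologicalComplex (ComplexShape.up ℤ)).map (adjC.homEquiv _ I j) ≫
        adjC.counit.app I = j :=
      (Adjunction.homEquiv_counit adjC _ _ _).symm.trans ((adjC.homEquiv _ I).symm_apply_apply j)
    rw [← e] at hj
    exact quasiIso_of_comp_right _ (adjC.counit.app I)
  have : IsIso (Q.map (adjC.homEquiv _ I j)) := (isIso_Q_map_iff_quasiIso _ _).2 hφ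
  exact ⟨I, hI, hc, ⟨(Q.objObjPreimageIso Y).symm ≪≫ asIso (Q.map (adjC.homEquiv _ I j))⟩⟩

theorem fullyFaithful (h : CounitQuasiIso P adj) :
    (WSerre.toDerived P).Full ∧ (WSerre.toDerived P).Faithful := by
  have hb : ∀ X Y : DerivedCategory P.FullSubcategory,
      Function.Bijective ((WSerre.toDerived P).map : (X ⟶ Y) → _) := fun X Y => by
    obtain ⟨I, hI, hc, ⟨e⟩⟩ := exists_iso h Y
    let e₀ := (Q.objObjPreimageIso X).symm
    have hb := bijective_map (P := P) (adj := adj) (Q.objPreimage X) I hc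
    constructor
    · intro a b hab
      have : e₀.inv ≫ a ≫ e.hom = e₀.inv ≫ b ≫ e.hom := hb.1 (by simp only [Functor.map_comp, hab])
      simpa using this
    · intro f
      obtain ⟨g, hg⟩ := hb.2 ((WSerre.toDerived P).map e₀.inv ≫ f ≫ (WSerre.toDerived P).map e.hom)
      exact ⟨e₀.hom ≫ g ≫ e.inv, by
        rw [Functor.map_comp, Functor.map_comp, hg]
        simp [← Functor.map_comp, ← Functor.map_comp_assoc]⟩
  exact ⟨⟨fun {X Y} f => (hb X Y).2 f⟩, ⟨fun {X Y} => (hb X Y).1⟩⟩

theorem cohIn_iff_essImage (h : CounitQuasiIso P adj) (K : DerivedCategory B) :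
    WSerre.cohIn P K ↔ (WSerre.toDerived P).essImage K := by
  constructor
  · intro hK
    obtain ⟨I, j, hI, hj, -, hinj⟩ := DHA.KInj.exists_resolution B (Q.objPreimage K)
    have : IsIso (Q.map j) := (isIso_Q_map_iff_quasiIso _ _).2 hj
    have e : K ≅ Q.obj I := (Q.objObjPreimageIso K).symm ≪≫ asIso (Q.map j)
    have hc := h I hinj fun n =>
      P.prop_of_iso ((homologyFunctor B n).mapIso e ≪≫ (homologyFunctorFactors B n).app I) (hK n)
    have : IsIso (Q.map ((CxAdj.mapCx adj (ComplexShape.up ℤ)).counit.app I)) :=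
      (isIso_Q_map_iff_quasiIso _ _).2 hc
    exact ⟨Q.obj ((T.mapHomologicalComplex (ComplexShape.up ℤ)).obj I),
      ⟨P.ι.mapDerivedCategoryFactors.app _ ≪≫
        asIso (Q.map ((CxAdj.mapCx adj (ComplexShape.up ℤ)).counit.app I)) ≪≫ e.symm⟩⟩
  · rintro ⟨X, ⟨e⟩⟩ q
    exact P.prop_of_iso ((Groth.Agent.DTrunc.homologyMapDerivedIso P.ι X q).symm ≪≫
      (homologyFunctor B q).mapIso e) ((homologyFunctor P.FullSubcategory q).obj X).property

end Groth.Agent.SitePull.SubDerived
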