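import Groth.Agent.KFlat.Flat
import Groth.Agent.ModShf.GrothAb
import Groth.Agent.ModShf.ToSheaf
import Groth.Agent.SiteCoh.ModuleFree
import Groth.Agent.SiteCoh.Acyclic
import Mathlib.Algebra.Homology.DerivedCategory.Ext.EnoughInjectives

/-!
# Vanishing of `Ext` out of free modules from vanishing of cohomology of the underlying abelian sheaves
-/

set_option autoImplicit false

universe u

open CategoryTheory CategoryTheory.Limits Opposite ModSite

namespace Groth.Agent.SitePull

open Groth.Agent.KFlat Groth.Agent.SiteCoh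

variable {C : Type u} [SmallCategory C] {J : GrothendieckTopology C} {O : Sheaf J CommRingCat.{u}}

/-- `H^(k+1)(U, M) = 0` kills `Ext^(k+1)(O_U, M)`. -/
theorem subsingleton_ext_freeU (U : C) : ∀ (k : ℕ) (M : Mod O), Subsingleton (ModSite.HU O M (k + 1) U) →
    Subsingleton (Abelian.Ext (freeU O U) M (k + 1)) := by
  intro k
  induction k with
  | zero =>
    intro M hM
    let S := ShortComplex.mk (Injective.ι M) (cokernel.π (Injective.ι M)) (cokernel.condition _)
    have hS : S.ShortExact := ShortComplex.ShortExact.mk'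
      (ShortComplex.exact_cokernel _) inferInstance inferInstance
    have hT := hS.map_of_exact (SheafOfModules.toSheaf (ringSh O))
    refine subsingleton_of_forall_eq 0 fun x => ?_
    obtain ⟨x₃, hx₃⟩ := Abelian.Ext.covariant_sequence_exact₁ (freeU O U) hS x
      ((Abelian.Ext.subsingleton_of_injective _ _ _).elim _ _) (zero_add 1)
    obtain ⟨g, rfl⟩ := (Abelian.Ext.mk₀_bijective _ _).2 x₃
    have : Subsingleton (CohSite.HU (S.map (SheafOfModules.toSheaf (ringSh O))).X₁ 1 U) := hM
    obtain ⟨s, hs⟩ := Acyclic.surjective_sections hT U (freeUEquiv U S.X₃ g)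
    have hg : (freeUEquiv U S.X₂).symm s ≫ S.g = g := by
      apply (freeUEquiv U S.X₃).injective
      rw [freeUEquiv_comp, Equiv.apply_symm_apply]
      exact hs
    rw [← hx₃, ← hg, ← Abelian.Ext.mk₀_comp_mk₀, Abelian.Ext.comp_assoc_of_second_deg_zero,
      hS.comp_extClass, Abelian.Ext.comp_zero]
  | succ k ih =>
    intro M hM
    let S := ShortComplex.mk (Injective.ι M) (cokernel.π (Injective.ι M)) (cokernel.condition _)
    have hS : S.ShortExact := ShortComplex.ShortExact.mk'
      (ShortComplex.exact_cokernel _) inferInstance inferInstance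
    have hT := hS.map_of_exact (SheafOfModules.toSheaf (ringSh O))
    have hI : Subsingleton (Abelian.Ext (CohCx.freeSheaf J U)
        (S.map (SheafOfModules.toSheaf (ringSh O))).X₂ (k + 1)) :=
      Acyclic.subsingleton_HU_of_totally _
        (ModuleFree.isTotallyAcyclic_toSheaf (ringSh O) (Injective.under M)) U k
    have hM' : Subsingleton (Abelian.Ext (CohCx.freeSheaf J U)
        (S.map (SheafOfModules.toSheaf (ringSh O))).X₁ (k + 1 + 1)) := hM
    have hQ : Subsingleton (Abelian.Ext (freeU O U) S.X₃ (k + 1)) :=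
      ih _ (show Subsingleton (Abelian.Ext (CohCx.freeSheaf J U)
          (S.map (SheafOfModules.toSheaf (ringSh O))).X₃ (k + 1)) from by
        refine subsingleton_of_forall_eq 0 fun y => ?_
        obtain ⟨y₂, hy₂⟩ := Abelian.Ext.covariant_sequence_exact₃ _ hT y rfl (Subsingleton.elim _ _)
        rw [← hy₂, Subsingleton.elim y₂ 0, Abelian.Ext.zero_comp])
    refine subsingleton_of_forall_eq 0 fun x => ?_
    obtain ⟨x₃, hx₃⟩ := Abelian.Ext.covariant_sequence_exact₁ (freeU O U) hS x
      ((Abelian.Ext.subsingleton_of_injective _ _ _).elim _ _) (n₀ := k + 1) rfl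
    rw [← hx₃, Subsingleton.elim x₃ 0, Abelian.Ext.zero_comp]

end Groth.Agent.SitePull
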