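import Groth.Agent.SitePull.Stable
import Groth.Agent.SitePull.HUFree
import Groth.Agent.DTrunc.CohIn

/-!
# Truncation towers and systems with eventually constant cohomology
-/

set_option autoImplicit false
set_option linter.style.haveILetI false

universe w u

open CategoryTheory CategoryTheory.Limits Opposite ModSite DerivedCategory Pretriangulated

namespace Groth.Agent.SitePull

open Groth.Agent.KFlat

variable {C : Type u} [SmallCategory C] {J : GrothendieckTopology C} {O : Sheaf J CommRingCat.{u}}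
  [HasDerivedCategory.{w} (Mod O)]

/-- Cohomology of the underlying abelian sheaf kills maps between shifted objects. -/
theorem null_of_HU (U : C) (M : Mod O) (m j : ℤ) (k : ℕ) (hk : j + k = m) (h0 : 0 < k)
    (h : Subsingleton (ModSite.HU O M k U)) : Null (freeU O U) M m j := by
  obtain ⟨p, rfl⟩ : ∃ p, k = p + 1 := ⟨k - 1, by omega⟩
  exact null_of_ext (freeU O U) M m j (p + 1) hk (subsingleton_ext_freeU U p M h)

/-- Stabilisation of the tower of truncations. -/
theorem stableAt_truncTower (E : DerivedCategory (Mod O)) (U : C) (m : ℤ) (N : ℕ)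
    (hN : ∀ (n : ℕ), N ≤ n → 0 < m + n + 1 ∧
      ∀ k : ℕ, ((k : ℤ) = m + n + 1 ∨ (k : ℤ) = m + n + 2) →
        Subsingleton (ModSite.HU O ((homologyFunctor (Mod O) (-((n + 1 : ℕ) : ℤ))).obj E) k U)) :
    StableAt (CohCx.truncTowerMap E) (freeU O U) m N := by
  intro n hn
  obtain ⟨hpos, hk⟩ := hN n hn
  obtain ⟨W, f, c, hT, ⟨e⟩⟩ := CohDerLib.HComp.fibre_truncGE E (-((n + 1 : ℕ) : ℤ)) (-(n : ℤ)) (by omega)
  have hv : ∀ m' : ℤ, (m' = m - 1 ∨ m' = m) →
      ∀ g : (singleFunctor (Mod O) m').obj (freeU O U) ⟶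
        ((singleFunctor (Mod O) (-((n + 1 : ℕ) : ℤ))).obj W)⟦(1 : ℤ)⟧, g = 0 := fun m' hm' g => by
    rw [← cancel_mono (shiftSingle W (-((n + 1 : ℕ) : ℤ))).hom, zero_comp]
    let k : ℕ := (m' - (-((n + 1 : ℕ) : ℤ) - 1)).toNat
    exact ((null_of_HU U _ m' _ k (by omega) (by omega) (hk k (by omega))).of_iso e) _
  exact ⟨⟨comp_injective_single (rot_of_distTriang _ hT) _ m (hv (m - 1) (Or.inl rfl)),
    comp_surjective (rot_of_distTriang _ hT) (hv m (Or.inr rfl))⟩,
    comp_surjective (rot_of_distTriang _ hT) (hv (m - 1) (Or.inl rfl))⟩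

/-- An object is the derived limit of its truncations when these stabilise on good coverings. -/
theorem isRlimVia_truncTower (E : DerivedCategory (Mod O)) [HasProduct (CohCx.truncTower E)] (B : Set C)
    (hB : ∀ U : C, ∃ (ι : Type u) (Y : ι → C) (g : ∀ i, Y i ⟶ U), Sieve.ofArrows Y g ∈ J U ∧ ∀ i, Y i ∈ B)
    (h : ∀ (m : ℤ), ∀ V ∈ B, ∃ N : ℕ, ∀ T ∈ J V, ∃ (ι : Type u) (Y : ι → C) (g : ∀ i, Y i ⟶ V),
      (∀ i, T.arrows (g i)) ∧ Sieve.ofArrows Y g ∈ J V ∧
      ∀ i, StableAt (CohCx.truncTowerMap E) (freeU O (Y i)) m N) :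
    CohCx.IsRlimVia (CohCx.truncTower E) (CohCx.truncTowerMap E) E (CohCx.toTruncTower E) := by
  let K := CohCx.truncTower E
  let t : ∀ n, K (n + 1) ⟶ K n := CohCx.truncTowerMap E
  let π : ∀ n, E ⟶ K n := CohCx.toTruncTower E
  let d := Pi.lift fun n => Pi.π K n - Pi.π K (n + 1) ≫ t n
  obtain ⟨L, a, c, hT⟩ := Pretriangulated.distinguished_cocone_triangle₁ d
  let a' : ∀ n, L ⟶ K n := fun n => a ≫ Pi.π K n
  have ha : Pi.lift a' = a := Pi.hom_ext _ _ fun n => by rw [Pi.lift_π]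
  have hL : CohCx.IsRlimVia K t L a' := ⟨c, by rw [ha]; exact hT⟩
  have hπ : ∀ n, π (n + 1) ≫ t n = π n := fun n => TStructure.t.π_natTransTruncGEOfLE_app _ _ _ E
  obtain ⟨e, he⟩ := exists_lift_rlim hL π hπ
  have hE : IsIso e := by
    rw [DerivedCategory.isIso_iff]
    intro m
    obtain ⟨n₀, hn₀⟩ : ∃ n₀ : ℕ, -(n₀ : ℤ) ≤ m := ⟨(-m).toNat, by omega⟩
    have hH : ∀ n, n₀ ≤ n → IsIso ((homologyFunctor (Mod O) m).map (t n)) := fun n hn =>
      DerivedLimit.isIso_H_twt E n m (by omega)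
    have := isIso_H_rlim hL m B hB n₀ hH (h m) n₀ le_rfl
    have hq : (homologyFunctor (Mod O) m).map e ≫ (homologyFunctor (Mod O) m).map (a' n₀) =
        (homologyFunctor (Mod O) m).map (π n₀) := by rw [← Functor.map_comp, he]
    have : IsIso ((homologyFunctor (Mod O) m).map e ≫ (homologyFunctor (Mod O) m).map (a' n₀)) := by
      rw [hq]
      exact DerivedLimit.isIso_H_twπ E n₀ m hn₀
    exact IsIso.of_isIso_comp_right _ ((homologyFunctor (Mod O) m).map (a' n₀))
  refine ⟨c ≫ (inv e)⟦(1 : ℤ)⟧', isomorphic_distinguished _ hT _ ?_⟩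
  refine Triangle.isoMk _ _ (@asIso _ _ _ _ e hE) (Iso.refl _) (Iso.refl _) ?_ ?_ ?_
  · refine (Category.comp_id _).trans (Pi.hom_ext _ _ fun n => ?_)
    exact (Pi.lift_π _ _).trans ((he n).symm.trans (Category.assoc _ _ _).symm)
  · exact (Category.comp_id _).trans (Category.id_comp _).symm
  · exact ((Category.assoc _ _ _).trans (congrArg (c ≫ ·) ((Functor.map_comp _ _ _).symm.trans
      ((congrArg _ (IsIso.inv_hom_id e)).trans (CategoryTheory.Functor.map_id _ _))))).trans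
      ((Category.comp_id _).trans (Category.id_comp _).symm)

section Cone

variable {A : Type*} [Category A] [Abelian A] [HasDerivedCategory A]

theorem isZero_homology_obj₃ (T : Triangle (DerivedCategory A)) (hT : T ∈ distTriang (DerivedCategory A)) (j : ℤ)
    [Epi ((homologyFunctor A j).map T.mor₁)] [Mono ((homologyFunctor A (j + 1)).map T.mor₁)] :
    IsZero ((homologyFunctor A j).obj T.obj₃) :=
  (HomologySequence.exact₃ T hT j (j + 1) rfl).isZero_X₂
    ((HomologySequence.epi_homologyMap_mor₁_iff T hT j).1 inferInstance)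
    ((HomologySequence.mono_homologyMap_mor₁_iff T hT j (j + 1) rfl).1 inferInstance)

theorem isGE_obj₃ (T : Triangle (DerivedCategory A)) (hT : T ∈ distTriang (DerivedCategory A)) (a : ℤ)
    [h₁ : T.obj₁.IsGE a] [h₂ : T.obj₂.IsGE a] : T.obj₃.IsGE (a - 1) := by
  have : TStructure.t.IsGE (T.obj₁⟦(1 : ℤ)⟧) (a - 1) := TStructure.t.isGE_shift T.obj₁ a 1 (a - 1) (by omega)
  have : TStructure.t.IsGE T.obj₂ (a - 1) := TStructure.t.isGE_of_ge T.obj₂ (a - 1) a (by omega)
  exact TStructure.t.isGE₂ _ (rot_of_distTriang _ hT) (a - 1) ‹_› ‹_›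

end Cone

/-- Stabilisation from eventually constant cohomology in a class of bounded cohomological dimension. -/
theorem stableAt_of_cohIn {K : ℕ → DerivedCategory (Mod O)} {t : ∀ n, K (n + 1) ⟶ K n}
    (P : ObjectProperty (Mod O)) [WSerre.IsWeakSerre P] (U : C) (m : ℤ) (d N : ℕ)
    (hU : ∀ F, P F → ∀ k : ℕ, d < k → Subsingleton (ModSite.HU O F k U))
    (hK : ∀ n, WSerre.cohInPlus P (K n))
    (hN : ∀ n, N ≤ n → ∀ j : ℤ, m - 1 - d ≤ j → j ≤ m + 1 → IsIso ((homologyFunctor (Mod O) j).map (t n))) :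
    StableAt t (freeU O U) m N := by
  intro n hn
  obtain ⟨Z, g, h, hT⟩ := Pretriangulated.distinguished_cocone_triangle (t n)
  have hZ : WSerre.cohIn P Z :=
    Groth.Agent.DTrunc.cohIn_obj₂ P _ (rot_of_distTriang _ hT) (hK n).1
      (Groth.Agent.DTrunc.cohIn_shift P (hK (n + 1)).1 1)
  obtain ⟨a₁, ha₁⟩ := (hK (n + 1)).2
  obtain ⟨a₂, ha₂⟩ := (hK n).2
  have : TStructure.t.IsGE (K (n + 1)) a₁ := ha₁
  have : TStructure.t.IsGE (K n) a₂ := ha₂
  have : (Triangle.mk (t n) g h).obj₁.IsGE (min a₁ a₂) :=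
    TStructure.t.isGE_of_ge (K (n + 1)) (min a₁ a₂) a₁ (min_le_left _ _)
  have : (Triangle.mk (t n) g h).obj₂.IsGE (min a₁ a₂) :=
    TStructure.t.isGE_of_ge (K n) (min a₁ a₂) a₂ (min_le_right _ _)
  have hZa : Z.IsGE (min a₁ a₂ - 1) := isGE_obj₃ _ hT (min a₁ a₂)
  have hv : ∀ m' : ℤ, (m' = m - 1 ∨ m' = m) →
      ∀ f : (singleFunctor (Mod O) m').obj (freeU O U) ⟶ Z, f = 0 := fun m' hm' f => by
    refine eq_zero_of_isGE (freeU O U) m' (min a₁ a₂ - 1) Z (fun j hj => ?_) f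
    rcases le_or_gt (m - 1 - (d : ℤ)) j with hj' | hj'
    · have := hN n hn j hj' (by omega)
      have := hN n hn (j + 1) (by omega) (by omega)
      exact null_of_isZero _ (@isZero_homology_obj₃ _ _ _ _ (Triangle.mk (t n) g h) hT j
        (inferInstanceAs (Epi ((homologyFunctor (Mod O) j).map (t n))))
        (inferInstanceAs (Mono ((homologyFunctor (Mod O) (j + 1)).map (t n))))) m' j
    · obtain ⟨k, hk⟩ := Int.le.dest (show j ≤ m' by omega)
      exact null_of_HU U _ m' j k hk (by omega) (hU _ (hZ j) k (by omega))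
  exact ⟨⟨comp_injective_single hT _ m (hv (m - 1) (Or.inl rfl)), comp_surjective hT (hv m (Or.inr rfl))⟩,
    comp_surjective hT (hv (m - 1) (Or.inl rfl))⟩

end Groth.Agent.SitePull
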