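import Groth.Agent.SitePull.Derived
import Groth.Agent.SitePull.Tower

/-!
# Maps from free modules into derived direct images, and higher direct images
-/

set_option autoImplicit false
set_option linter.style.haveILetI false

universe u

open CategoryTheory CategoryTheory.Limits Opposite ModSite DerivedCategory Pretriangulated

attribute [local instance] HasDerivedCategory.standard

namespace Groth.Agent.SitePull

open Groth.Agent.KFlat Groth.Agent.PullFlat

variable {C D : Type u} [SmallCategory C] [SmallCategory D] {J : GrothendieckTopology C}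
  {K : GrothendieckTopology D} {O_C : Sheaf J CommRingCat.{u}} {O_D : Sheaf K CommRingCat.{u}}
  (f : RMor O_C O_D)

/-- Sections over `W` of a direct image are corepresented by the free module on the image of `W`. -/
noncomputable def corepPush (W : D) :
    (f.push ⋙ SheafOfModules.forget (ringSh O_D) ⋙ PresheafOfModules.evaluation _ (op W) ⋙
      forget _).CorepresentableBy (freeU O_C (f.fn.obj W)) where
  homEquiv {M} := freeUEquiv (f.fn.obj W) M
  homEquiv_comp g φ := freeUEquiv_comp _ φ g

/-- The inverse image of the free module also corepresents them. -/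
noncomputable def corepPull (W : D) :
    (f.push ⋙ SheafOfModules.forget (ringSh O_D) ⋙ PresheafOfModules.evaluation _ (op W) ⋙
      forget _).CorepresentableBy (f.pull.obj (freeU O_D W)) where
  homEquiv {M} := (f.adj.homEquiv _ M).trans (freeUEquiv W (f.push.obj M))
  homEquiv_comp g φ :=
    (congrArg (freeUEquiv W _) (f.adj.homEquiv_naturality_right φ g)).trans (freeUEquiv_comp _ _ _)

/-- `f^* O_W = O_(uW)`. -/
noncomputable def pullFreeUIso (W : D) : f.pull.obj (freeU O_D W) ≅ freeU O_C (f.fn.obj W) :=
  (corepPull f W).uniqueUpToIso (corepPush f W)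

/-- The derived inverse image of a shifted free module. -/
noncomputable def lpullSingleIso (W : D) (m : ℤ) :
    (Deriv.derived (L := Q) (resolves f)).obj ((singleFunctor (Mod O_D) m).obj (freeU O_D W)) ≅
      (singleFunctor (Mod O_C) m).obj (freeU O_C (f.fn.obj W)) :=
  let P := (HomologicalComplex.single (Mod O_D) (ComplexShape.up ℤ) m).obj (freeU O_D W)
  have hfl : ∀ i, TensorMono (P.X i) := fun i => by
    rcases eq_or_ne i m with rfl | hi
    · exact tensorMono_of_retract (HomologicalComplex.singleObjXSelf (ComplexShape.up ℤ) i (freeU O_D W)).hom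
        (HomologicalComplex.singleObjXSelf (ComplexShape.up ℤ) i (freeU O_D W)).inv (Iso.hom_inv_id _)
        (tensorMono_freeU W)
    · exact tensorMono_of_isZero (HomologicalComplex.isZero_single_obj_X _ _ _ _ hi)
  have : IsIso ((pullCx f ⋙ Q).map ((resπ O_D).app P)) := by
    have := quasiIso_pullCx f ((resπ O_D).app P) (isKFlat_res P) (isKFlat_single (tensorMono_freeU W) m)
      (tensorMono_res P) hfl
    exact inferInstanceAs (IsIso (Q.map ((pullCx f).map ((resπ O_D).app P))))
  have hc : IsIso ((Deriv.counit (L := Q) (resolves f)).app P) := Deriv.isIso_counit_app (L := Q) (resolves f) P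
  (Deriv.derived (L := Q) (resolves f)).mapIso
      (((SingleFunctors.evaluation _ _ m).mapIso (singleFunctorsPostcompQIso (Mod O_D))).app _) ≪≫
    @asIso _ _ _ _ _ hc ≪≫
    Q.mapIso ((HomologicalComplex.singleMapHomologicalComplex f.pull (ComplexShape.up ℤ) m).app (freeU O_D W) ≪≫
      (HomologicalComplex.single (Mod O_C) (ComplexShape.up ℤ) m).mapIso (pullFreeUIso f W)) ≪≫
    (((SingleFunctors.evaluation _ _ m).mapIso (singleFunctorsPostcompQIso (Mod O_C))).app _).symm

variable [SiteCmp.HasRpushD f]

/-- Maps from shifted free modules into derived direct images. -/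
noncomputable def homPushEquiv (W : D) (m : ℤ) (Y : DerivedCategory (Mod O_C)) :
    ((singleFunctor (Mod O_C) m).obj (freeU O_C (f.fn.obj W)) ⟶ Y) ≃
      ((singleFunctor (Mod O_D) m).obj (freeU O_D W) ⟶ (SiteCmp.RpushD f).obj Y) :=
  (lpullSingleIso f W m).symm.homFromEquiv.trans
    ((DTrunc.LeftResAdj.derivedAdj f.push f.adj (resolves f)).homEquiv _ Y)

theorem homPushEquiv_comp (W : D) (m : ℤ) {Y Y' : DerivedCategory (Mod O_C)}
    (y : (singleFunctor (Mod O_C) m).obj (freeU O_C (f.fn.obj W)) ⟶ Y) (t : Y ⟶ Y') :
    homPushEquiv f W m Y' (y ≫ t) = homPushEquiv f W m Y y ≫ (SiteCmp.RpushD f).map t := by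
  refine Eq.trans ?_ ((DTrunc.LeftResAdj.derivedAdj f.push f.adj (resolves f)).homEquiv_naturality_right _ t)
  simp [homPushEquiv]

theorem bijective_map (W : D) (m : ℤ) {Y Y' : DerivedCategory (Mod O_C)} (t : Y ⟶ Y')
    (h : Function.Bijective fun y : (singleFunctor (Mod O_C) m).obj (freeU O_C (f.fn.obj W)) ⟶ Y => y ≫ t) :
    Function.Bijective fun y : (singleFunctor (Mod O_D) m).obj (freeU O_D W) ⟶ (SiteCmp.RpushD f).obj Y =>
      y ≫ (SiteCmp.RpushD f).map t := by
  have := ((homPushEquiv f W m Y').bijective.comp h).comp (homPushEquiv f W m Y).symm.bijective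
  convert this using 1
  funext y
  simp [homPushEquiv_comp]

theorem surjective_map (W : D) (m : ℤ) {Y Y' : DerivedCategory (Mod O_C)} (t : Y ⟶ Y')
    (h : Function.Surjective fun y : (singleFunctor (Mod O_C) m).obj (freeU O_C (f.fn.obj W)) ⟶ Y => y ≫ t) :
    Function.Surjective fun y : (singleFunctor (Mod O_D) m).obj (freeU O_D W) ⟶ (SiteCmp.RpushD f).obj Y =>
      y ≫ (SiteCmp.RpushD f).map t := by
  have := ((homPushEquiv f W m Y').surjective.comp h).comp (homPushEquiv f W m Y).symm.surjective
  convert this using 1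
  funext y
  simp [homPushEquiv_comp]

/-- A system stable on the image of `W` pushes forward to a system stable on `W`. -/
theorem stableAt_push {E : ℕ → DerivedCategory (Mod O_C)} {t : ∀ n, E (n + 1) ⟶ E n} (W : D) (m : ℤ) (N : ℕ)
    (h : StableAt t (freeU O_C (f.fn.obj W)) m N) :
    StableAt (K := fun n => (SiteCmp.RpushD f).obj (E n)) (fun n => (SiteCmp.RpushD f).map (t n))
      (freeU O_D W) m N :=
  fun n hn => ⟨bijective_map f W m (t n) (h n hn).1, surjective_map f W (m - 1) (t n) (h n hn).2⟩

end Groth.Agent.SitePull
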