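import Groth.Agent.SitePull.TorsSub
import Groth.Agent.KFlat.CxAdj
import Groth.Prelude.Def_WeakSerre
import Mathlib.CategoryTheory.Sites.Abelian
import Mathlib.Algebra.Homology.HomologySequenceLemmas
import Mathlib.Algebra.Homology.HomologicalComplexAbelian

/-!
# Complexes of injectives with torsion cohomology
-/

set_option autoImplicit false
set_option synthInstance.maxSize 4096

universe u

open CategoryTheory CategoryTheory.Limits

namespace Groth.Agent.SitePull.Tors

variable {C : Type u} [SmallCategory C] (J : GrothendieckTopology C)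

instance torsFunctor_additive [(SiteCmp.torsionSh J).IsSerreClass] : (torsFunctor J).Additive :=
  (adj J).right_adjoint_additive

/-- The counit is a quasi-isomorphism on complexes of injectives with torsion cohomology. -/
theorem quasiIso_counit [hP : (SiteCmp.torsionSh J).IsSerreClass]
    (I : CochainComplex (Sheaf J AddCommGrpCat.{u}) ℤ) (hI : ∀ n, Injective (I.X n))
    (hH : ∀ n, SiteCmp.torsionSh J (I.homology n)) :
    QuasiIso ((Groth.Agent.KFlat.CxAdj.mapCx (adj J) (ComplexShape.up ℤ)).counit.app I) := by
  let c := (Groth.Agent.KFlat.CxAdj.mapCx (adj J) (ComplexShape.up ℤ)).counit.app I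
  have hc : ∀ k, c.f k = incl J (I.X k) := fun k => counit_app J _
  have : ∀ k, Mono (c.f k) := fun k => by rw [hc k]; exact mono_incl J _
  have : Mono c := HomologicalComplex.mono_of_mono_f c inferInstance
  let S := ShortComplex.mk c (cokernel.π c) (cokernel.condition c)
  have hS : S.ShortExact := { exact := ShortComplex.exact_cokernel c }
  have hsmul : ∀ n : ℕ, n ≠ 0 → IsIso (n • 𝟙 (cokernel c)) := fun n hn => by
    have : Mono (n • 𝟙 (cokernel c)) := by
      refine HomologicalComplex.mono_of_mono_f _ fun k => ?_
      have h0 := mono_nsmul_quotient J (I.X k) n hn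
      let e : (cokernel c).X k ≅ cokernel (incl J (I.X k)) :=
        PreservesCokernel.iso (HomologicalComplex.eval (Sheaf J AddCommGrpCat.{u}) (ComplexShape.up ℤ) k) c ≪≫ cokernelIsoOfEq (hc k)
      have h : (n • 𝟙 (cokernel c)).f k = e.hom ≫ (n • 𝟙 _) ≫ e.inv := by
        rw [Preadditive.nsmul_comp, Category.id_comp, Preadditive.comp_nsmul, Iso.hom_inv_id]
        rfl
      rw [h]
      infer_instance
    have : Epi (n • 𝟙 (cokernel c)) := by
      have : Epi (n • 𝟙 I) := HomologicalComplex.epi_of_epi_f _ fun k => by
        have := hI k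
        rw [show (n • 𝟙 I : I ⟶ I).f k = n • 𝟙 (I.X k) from rfl]
        exact epi_nsmul J (I.X k) n hn
      have e : cokernel.π c ≫ (n • 𝟙 (cokernel c)) = (n • 𝟙 I) ≫ cokernel.π c := by
        rw [Preadditive.nsmul_comp, Preadditive.comp_nsmul, Category.id_comp, Category.comp_id]
      have : Epi (cokernel.π c ≫ (n • 𝟙 (cokernel c))) := by rw [e]; infer_instance
      exact epi_of_epi (cokernel.π c) _
    exact isIso_of_mono_of_epi _
  have hQ : ∀ i, IsZero (S.X₃.homology i) := fun i => by
    refine isZero_of_torsion_of_mono_nsmul J _ ?_ fun n hn => ?_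
    · refine (SiteCmp.torsionSh J).prop_X₂_of_exact (hS.homology_exact₃ i (i + 1) rfl) (hH i) ?_
      exact (SiteCmp.torsionSh J).prop_of_iso
        (ShortComplex.mapHomologyIso
          ((((torsFunctor J).mapHomologicalComplex (ComplexShape.up ℤ)).obj I).sc (i + 1))
          (SiteCmp.torsionSh J).ι).symm
        ((((torsFunctor J).mapHomologicalComplex (ComplexShape.up ℤ)).obj I).homology (i + 1)).property
    · have := hsmul n hn
      have h : n • 𝟙 (S.X₃.homology i) =
          (HomologicalComplex.homologyFunctor _ _ i).map (n • 𝟙 (cokernel c)) := by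
        rw [Functor.map_nsmul, CategoryTheory.Functor.map_id]
        rfl
      rw [h]
      have := (HomologicalComplex.homologyFunctor (Sheaf J AddCommGrpCat.{u}) (ComplexShape.up ℤ) i).map_isIso (n • 𝟙 (cokernel c))
      exact @IsIso.mono_of_iso _ _ _ _ _ this
  refine ⟨fun i => ?_⟩
  rw [quasiIsoAt_iff_isIso_homologyMap]
  have : Mono (HomologicalComplex.homologyMap S.f i) :=
    (hS.homology_exact₁ (i - 1) i (by simp)).mono_g ((hQ (i - 1)).eq_of_src _ _)
  have : Epi (HomologicalComplex.homologyMap S.f i) :=
    (hS.homology_exact₂ i).epi_f ((hQ i).eq_of_tgt _ _)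
  exact isIso_of_mono_of_epi (HomologicalComplex.homologyMap S.f i)

end Groth.Agent.SitePull.Tors
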