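import Groth.Agent.SitePull.RFHomology
import Groth.Agent.KFlat.DerivedLimit

/-!
# Cohomology of total right derived functors along truncation towers
-/

set_option autoImplicit false

universe w w' v u v' u'

open CategoryTheory CategoryTheory.Limits DerivedCategory Pretriangulated

namespace Groth.Agent.SitePull

open Groth.Agent.CohDerLib.RFLim Groth.Agent.KFlat

/-- One degree of the cohomology of the middle term of a triangle. -/
theorem prop_homology_obj₂ {B : Type u'} [Category.{v'} B] [Abelian B] [HasDerivedCategory.{w'} B]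
    (P : ObjectProperty B) [WSerre.IsWeakSerre P] (T : Triangle (DerivedCategory B))
    (hT : T ∈ distTriang (DerivedCategory B)) (i : ℤ)
    (h₀ : P ((homologyFunctor B (i - 1)).obj T.obj₃)) (h₁ : P ((homologyFunctor B i).obj T.obj₁))
    (h₃ : P ((homologyFunctor B i).obj T.obj₃)) (h₄ : P ((homologyFunctor B (i + 1)).obj T.obj₁)) :
    P ((homologyFunctor B i).obj T.obj₂) :=
  Groth.Agent.DTrunc.prop_of_five_term P (HomologySequence.δ T (i - 1) i (by lia))
    ((homologyFunctor B i).map T.mor₁) ((homologyFunctor B i).map T.mor₂)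
    (HomologySequence.δ T i (i + 1) (by lia))
    (HomologySequence.δ_comp T hT (i - 1) i (by lia))
    (by rw [← Functor.map_comp, comp_distTriang_mor_zero₁₂ T hT, Functor.map_zero])
    (HomologySequence.comp_δ T hT i (i + 1) (by lia))
    (HomologySequence.exact₁ T hT (i - 1) i (by lia))
    (HomologySequence.exact₂ T hT i)
    (HomologySequence.exact₃ T hT i (i + 1) (by lia))
    h₀ h₁ h₃ h₄

variable {A : Type u} [Category.{v} A] [Abelian A] [IsGrothendieckAbelian.{v} A]
  [HasDerivedCategory.{w} A] {B : Type u'} [Category.{v'} B] [Abelian B] [HasDerivedCategory.{w'} B]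
  (F : A ⥤ B) [F.Additive]
  [(F.mapHomotopyCategory (ComplexShape.up ℤ) ⋙ Qh).HasRightDerivedFunctor
    (HomotopyCategory.quasiIso A (ComplexShape.up ℤ))]
  (P : ObjectProperty A) (P' : ObjectProperty B) [WSerre.IsWeakSerre P']

/-- Cohomology of the image of a bounded below object stays in a weak Serre class. -/
theorem cohIn_RF_aux (hS : ∀ M, P M → ∀ q, WSerre.cohIn P' ((RF F).obj ((singleFunctor A q).obj M)))
    (i : ℤ) : ∀ (d : ℕ) (a : ℤ) (X : DerivedCategory A), i < a + d → X.IsGE a →
      (∀ q, a ≤ q → ∃ M, P M ∧ Nonempty (M ≅ (homologyFunctor A q).obj X)) →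
      P' ((homologyFunctor B i).obj ((RF F).obj X)) := by
  intro d
  induction d generalizing i with
  | zero =>
    intro a X hi hX _
    have := isGE_RF F X a
    exact Groth.Agent.DTrunc.prop_of_isZero P' (isZero_of_isGE _ a i (by omega))
  | succ d ih =>
    intro a X hi hX hH
    let T := (TStructure.t.triangleLTGE (a + 1)).obj X
    have hT := TStructure.t.triangleLTGE_distinguished (a + 1) X
    obtain ⟨Y, ⟨eY⟩, ⟨e⟩⟩ := TruncHom.truncLT_succ_iso_single X a hX
    obtain ⟨M, hM, ⟨eM⟩⟩ := hH a le_rfl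
    have h₁ : WSerre.cohIn P' ((RF F).obj T.obj₁) :=
      Groth.Agent.DTrunc.cohIn_of_iso P'
        ((RF F).mapIso ((singleFunctor A a).mapIso (eM ≪≫ eY.symm) ≪≫ e.symm)) (hS M hM a)
    have h₃ : ∀ j, j ≤ i → P' ((homologyFunctor B j).obj ((RF F).obj T.obj₃)) := fun j hj =>
      ih j (a + 1) T.obj₃ (by omega)
        (inferInstanceAs (TStructure.t.IsGE ((TStructure.t.truncGE (a + 1)).obj X) (a + 1))) fun q hq => by
          obtain ⟨M', hM', ⟨e'⟩⟩ := hH q (by omega)
          exact ⟨M', hM', ⟨e' ≪≫ @asIso _ _ _ _ _ (TruncHom.isIso_H_truncGEπ X (a + 1) q hq)⟩⟩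
    obtain ⟨δ, hδ⟩ := distinguished_RF F T hT
    exact prop_homology_obj₂ P' _ hδ i (h₃ (i - 1) (by omega)) (h₁ i) (h₃ i le_rfl) (h₁ (i + 1))

/-- Cohomology of the image of a bounded below object stays in a weak Serre class. -/
theorem cohIn_RF (hS : ∀ M, P M → ∀ q, WSerre.cohIn P' ((RF F).obj ((singleFunctor A q).obj M)))
    (X : DerivedCategory A) (a : ℤ) [hX : X.IsGE a]
    (hH : ∀ q, a ≤ q → ∃ M, P M ∧ Nonempty (M ≅ (homologyFunctor A q).obj X)) :
    WSerre.cohIn P' ((RF F).obj X) :=
  fun i => cohIn_RF_aux F P P' hS i (i + 1 - a).toNat a X (by omega) hX hH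

omit [WSerre.IsWeakSerre P'] in
/-- The derived functor of bounded cohomological amplitude only sees a truncation. -/
theorem isIso_H_RF_trunc (E : DerivedCategory A) (N : ℤ)
    (h : ∀ q i : ℤ, N < i - q →
      IsZero ((homologyFunctor B i).obj ((RF F).obj ((singleFunctor A q).obj ((homologyFunctor A q).obj E)))))
    (n : ℕ) (i : ℤ) (hi : N - (n : ℤ) ≤ i) :
    IsIso ((homologyFunctor B i).map ((RF F).map (DerivedLimit.twt E n))) := by
  obtain ⟨W, f, c, hT, ⟨e⟩⟩ := CohDerLib.HComp.fibre_truncGE E (-((n + 1 : ℕ) : ℤ)) (-(n : ℤ)) (by omega)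
  obtain ⟨δ, hδ⟩ := distinguished_RF F _ hT
  have hz : ∀ j, i ≤ j →
      IsZero ((homologyFunctor B j).obj ((RF F).obj ((singleFunctor A (-((n + 1 : ℕ) : ℤ))).obj W))) :=
    fun j hj => (h _ j (by omega)).of_iso
      ((homologyFunctor B j).mapIso ((RF F).mapIso ((singleFunctor A _).mapIso e)))
  have hm : Mono ((homologyFunctor B i).map ((RF F).map (DerivedLimit.twt E n))) :=
    (HomologySequence.mono_homologyMap_mor₂_iff _ hδ i).2 ((hz i le_rfl).eq_of_src _ _)
  have he : Epi ((homologyFunctor B i).map ((RF F).map (DerivedLimit.twt E n))) :=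
    (HomologySequence.epi_homologyMap_mor₂_iff _ hδ i (i + 1) rfl).2 ((hz (i + 1) (by omega)).eq_of_tgt _ _)
  exact isIso_of_mono_of_epi _

end Groth.Agent.SitePull
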