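import Groth.Agent.SitePull.Push
import Groth.Agent.SitePull.RFCohIn
import Groth.Agent.DHA.KInj.Products

/-!
# `Rf_*` of bounded cohomological amplitude sees only truncations
-/

set_option autoImplicit false
set_option linter.style.haveILetI false

universe u

open CategoryTheory CategoryTheory.Limits Opposite ModSite DerivedCategory Pretriangulated

attribute [local instance] HasDerivedCategory.standard

namespace Groth.Agent.SitePull

open Groth.Agent.KFlat Groth.Agent.CohDerLib.RFLim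

variable {C D : Type u} [SmallCategory C] [SmallCategory D] {J : GrothendieckTopology C}
  {K : GrothendieckTopology D} {O_C : Sheaf J CommRingCat.{u}} {O_D : Sheaf K CommRingCat.{u}}

theorem hasProduct_D (E : ℕ → DerivedCategory (Mod O_C)) : HasProduct E := by
  choose I hI e using fun n => exists_rep (E n)
  have := DHA.KInj.hasProduct_of_isKInjective I
  exact hasLimit_of_iso (Discrete.natIso (fun n => (e n.as).some) :
    Discrete.functor (fun n => Q.obj (I n)) ≅ Discrete.functor E)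

variable (f : RMor O_C O_D) [SiteCmp.HasRpushD f]

/-- `Rf_*` commutes with derived limits. -/
theorem isRlimVia_push (E : ℕ → DerivedCategory (Mod O_C)) (t : ∀ n, E (n + 1) ⟶ E n) [HasProduct E]
    (L : DerivedCategory (Mod O_C)) (a : ∀ n, L ⟶ E n) (hL : CohCx.IsRlimVia E t L a)
    [HasProduct fun n => (SiteCmp.RpushD f).obj (E n)] :
    CohCx.IsRlimVia (fun n => (SiteCmp.RpushD f).obj (E n)) (fun n => (SiteCmp.RpushD f).map (t n))
      ((SiteCmp.RpushD f).obj L) (fun n => (SiteCmp.RpushD f).map (a n)) := by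
  obtain ⟨c, hT⟩ := hL
  obtain ⟨δ, hδ⟩ := distinguished_RF f.push _ hT
  have := isRightAdjoint_rpushD f
  let R := SiteCmp.RpushD f
  have : R.Additive := additive_RF f.push
  have : PreservesLimit (Discrete.functor E) R := inferInstance
  let φ := PreservesProduct.iso R E
  have hπ : ∀ n, φ.hom ≫ Pi.π (fun n => R.obj (E n)) n = R.map (Pi.π E n) := fun n => by
    rw [PreservesProduct.iso_hom]
    exact piComparison_comp_π R E n
  refine ⟨φ.inv ≫ δ, Pretriangulated.isomorphic_distinguished _ hδ _ ?_⟩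
  refine Pretriangulated.Triangle.isoMk _ _ (Iso.refl _) φ.symm φ.symm ?_ ?_ ?_
  · change Pi.lift (fun n => R.map (a n)) ≫ φ.inv = 𝟙 _ ≫ R.map (Pi.lift a)
    rw [Category.id_comp, Iso.comp_inv_eq]
    refine Pi.hom_ext _ _ fun n => ?_
    rw [Pi.lift_π, Category.assoc, hπ, ← R.map_comp, Pi.lift_π]
  · change Pi.lift (fun n => Pi.π (fun n => R.obj (E n)) n - Pi.π (fun n => R.obj (E n)) (n + 1) ≫ R.map (t n)) ≫
      φ.inv = φ.inv ≫ R.map (Pi.lift fun n => Pi.π E n - Pi.π E (n + 1) ≫ t n)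
    rw [Iso.eq_inv_comp, ← Category.assoc, Iso.comp_inv_eq]
    refine Pi.hom_ext _ _ fun n => ?_
    rw [Category.assoc, Category.assoc, Pi.lift_π, hπ, ← R.map_comp, Pi.lift_π, R.map_sub, R.map_comp,
      Preadditive.comp_sub, ← Category.assoc, hπ, hπ]
  · change (φ.inv ≫ δ) ≫ (𝟙 (R.obj L))⟦(1 : ℤ)⟧' = φ.inv ≫ δ
    exact (congrArg ((φ.inv ≫ δ) ≫ ·) (CategoryTheory.Functor.map_id _ _)).trans (Category.comp_id _)

/-- The truncation tower is the derived limit when the cohomology has bounded dimension on good coverings. -/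
theorem isRlimVia_truncTower_of_cohIn (P : ObjectProperty (Mod O_C)) (B : Set C)
    (hB : ∀ U : C, ∃ (ι : Type u) (Y : ι → C) (g : ∀ i, Y i ⟶ U), Sieve.ofArrows Y g ∈ J U ∧ ∀ i, Y i ∈ B)
    (hA : ∀ V ∈ B, ∃ d : ℕ, ∀ T ∈ J V, ∃ (ι : Type u) (Y : ι → C) (g : ∀ i, Y i ⟶ V),
      (∀ i, T.arrows (g i)) ∧ Sieve.ofArrows Y g ∈ J V ∧
      ∀ (i : ι) (F : Mod O_C), P F → ∀ k : ℕ, d < k → Subsingleton (ModSite.HU O_C F k (Y i)))
    (X : DerivedCategory (Mod O_C)) (hX : WSerre.cohIn P X) [HasProduct (CohCx.truncTower X)] :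
    CohCx.IsRlimVia (CohCx.truncTower X) (CohCx.truncTowerMap X) X (CohCx.toTruncTower X) := by
  refine isRlimVia_truncTower X B hB fun m V hV => ?_
  obtain ⟨d, hd⟩ := hA V hV
  refine ⟨((d : ℤ) - m + 1).toNat + (1 - m).toNat, fun T hT => ?_⟩
  obtain ⟨ι, Y, g, hg, hgJ, hv⟩ := hd T hT
  exact ⟨ι, Y, g, hg, hgJ, fun i => stableAt_truncTower X _ m _ fun n hn =>
    ⟨by omega, fun k hk => hv i _ (hX _) k (by omega)⟩⟩

/-- `Rf_*` of bounded amplitude on a class sees only a truncation. -/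
theorem isIso_H_push_trunc (P : ObjectProperty (Mod O_C)) (B : Set C)
    (hB : ∀ U : C, ∃ (ι : Type u) (Y : ι → C) (g : ∀ i, Y i ⟶ U), Sieve.ofArrows Y g ∈ J U ∧ ∀ i, Y i ∈ B)
    (hA : ∀ V ∈ B, ∃ d : ℕ, ∀ T ∈ J V, ∃ (ι : Type u) (Y : ι → C) (g : ∀ i, Y i ⟶ V),
      (∀ i, T.arrows (g i)) ∧ Sieve.ofArrows Y g ∈ J V ∧
      ∀ (i : ι) (F : Mod O_C), P F → ∀ k : ℕ, d < k → Subsingleton (ModSite.HU O_C F k (Y i)))
    (X : DerivedCategory (Mod O_C)) (hX : WSerre.cohIn P X) (N : ℤ)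
    (hvan : ∀ F, P F → ∀ q i : ℤ, N < i - q →
      IsZero ((homologyFunctor (Mod O_D) i).obj ((SiteCmp.RpushD f).obj ((singleFunctor (Mod O_C) q).obj F))))
    (B' : Set D)
    (hB' : ∀ U : D, ∃ (ι : Type u) (Y : ι → D) (g : ∀ i, Y i ⟶ U), Sieve.ofArrows Y g ∈ K U ∧ ∀ i, Y i ∈ B')
    (hstab : ∀ (m : ℤ), ∀ V ∈ B', ∃ N' : ℕ, ∀ T ∈ K V, ∃ (ι : Type u) (Y : ι → D) (g : ∀ i, Y i ⟶ V),
      (∀ i, T.arrows (g i)) ∧ Sieve.ofArrows Y g ∈ K V ∧
      ∀ i, StableAt (K := fun n => (SiteCmp.RpushD f).obj (CohCx.truncTower X n))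
        (fun n => (SiteCmp.RpushD f).map (CohCx.truncTowerMap X n)) (freeU O_D (Y i)) m N')
    (n : ℕ) (j : ℤ) (hj : N - (n : ℤ) ≤ j) :
    IsIso ((homologyFunctor (Mod O_D) j).map ((SiteCmp.RpushD f).map (CohCx.toTruncTower X n))) := by
  have := hasProduct_D (CohCx.truncTower X)
  have := hasProduct_D (fun n => (SiteCmp.RpushD f).obj (CohCx.truncTower X n))
  exact isIso_H_rlim
    (isRlimVia_push f _ _ _ _ (isRlimVia_truncTower_of_cohIn P B hB hA X hX)) j B' hB' n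
    (fun k hk => isIso_H_RF_trunc f.push X N (fun q i hqi => hvan _ (hX q) q i hqi) k j (by omega))
    (hstab j) n le_rfl

/-- Stabilisation from vanishing of cohomology upstairs. -/
theorem stab_of_upstairs (P : ObjectProperty (Mod O_C)) (B' : Set D)
    (hA' : ∀ V ∈ B', ∃ d : ℕ, ∀ T ∈ K V, ∃ (ι : Type u) (Y : ι → D) (g : ∀ i, Y i ⟶ V),
      (∀ i, T.arrows (g i)) ∧ Sieve.ofArrows Y g ∈ K V ∧
      ∀ (i : ι) (F : Mod O_C), P F → ∀ k : ℕ, d < k → Subsingleton (ModSite.HU O_C F k (f.fn.obj (Y i))))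
    (X : DerivedCategory (Mod O_C)) (hX : WSerre.cohIn P X) :
    ∀ (m : ℤ), ∀ V ∈ B', ∃ N' : ℕ, ∀ T ∈ K V, ∃ (ι : Type u) (Y : ι → D) (g : ∀ i, Y i ⟶ V),
      (∀ i, T.arrows (g i)) ∧ Sieve.ofArrows Y g ∈ K V ∧
      ∀ i, StableAt (K := fun n => (SiteCmp.RpushD f).obj (CohCx.truncTower X n))
        (fun n => (SiteCmp.RpushD f).map (CohCx.truncTowerMap X n)) (freeU O_D (Y i)) m N' := fun m V hV => by
  obtain ⟨d, hd⟩ := hA' V hV
  refine ⟨((d : ℤ) - m + 1).toNat + (1 - m).toNat, fun T hT => ?_⟩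
  obtain ⟨ι, Y, g, hg, hgJ, hv⟩ := hd T hT
  exact ⟨ι, Y, g, hg, hgJ, fun i => stableAt_push f (Y i) m _ (stableAt_truncTower X _ m _ fun n hn =>
    ⟨by omega, fun k hk => hv i _ (hX _) k (by omega)⟩)⟩

/-- Stabilisation from vanishing of cohomology downstairs. -/
theorem stab_of_downstairs (P' : ObjectProperty (Mod O_D)) [WSerre.IsWeakSerre P'] (B' : Set D)
    (hA' : ∀ V ∈ B', ∃ d : ℕ, ∀ T ∈ K V, ∃ (ι : Type u) (Y : ι → D) (g : ∀ i, Y i ⟶ V),
      (∀ i, T.arrows (g i)) ∧ Sieve.ofArrows Y g ∈ K V ∧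
      ∀ (i : ι) (F : Mod O_D), P' F → ∀ k : ℕ, d < k → Subsingleton (ModSite.HU O_D F k (Y i)))
    (X : DerivedCategory (Mod O_C)) (N : ℤ)
    (hvan : ∀ q i : ℤ, N < i - q → IsZero ((homologyFunctor (Mod O_D) i).obj
      ((SiteCmp.RpushD f).obj ((singleFunctor (Mod O_C) q).obj ((homologyFunctor (Mod O_C) q).obj X)))))
    (hP : ∀ n, WSerre.cohIn P' ((SiteCmp.RpushD f).obj (CohCx.truncTower X n))) :
    ∀ (m : ℤ), ∀ V ∈ B', ∃ N' : ℕ, ∀ T ∈ K V, ∃ (ι : Type u) (Y : ι → D) (g : ∀ i, Y i ⟶ V),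
      (∀ i, T.arrows (g i)) ∧ Sieve.ofArrows Y g ∈ K V ∧
      ∀ i, StableAt (K := fun n => (SiteCmp.RpushD f).obj (CohCx.truncTower X n))
        (fun n => (SiteCmp.RpushD f).map (CohCx.truncTowerMap X n)) (freeU O_D (Y i)) m N' := fun m V hV => by
  obtain ⟨d, hd⟩ := hA' V hV
  refine ⟨(N - (m - 1 - (d : ℤ))).toNat, fun T hT => ?_⟩
  obtain ⟨ι, Y, g, hg, hgJ, hv⟩ := hd T hT
  refine ⟨ι, Y, g, hg, hgJ, fun i => stableAt_of_cohIn P' (Y i) m d _ (fun F hF => hv i F hF)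
    (fun n => ⟨hP n, ?_⟩) fun n hn j h1 _ => isIso_H_RF_trunc f.push X N hvan n j (by omega)⟩
  have : (CohCx.truncTower X n).IsGE (-(n : ℤ)) :=
    inferInstanceAs (TStructure.t.IsGE ((TStructure.t.truncGE (-(n : ℤ))).obj X) (-(n : ℤ)))
  exact ⟨-(n : ℤ), isGE_RF f.push (CohCx.truncTower X n) (-(n : ℤ))⟩

end Groth.Agent.SitePull
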