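import Groth.Agent.SitePull.PushStable
import Groth.Agent.DTrunc.Equiv

/-!
# The unbounded equivalence `D_{A'} = D_A` of a flat morphism under bounded cohomological dimension
-/

set_option autoImplicit false
set_option linter.style.haveILetI false

universe u

open CategoryTheory CategoryTheory.Limits Opposite ModSite DerivedCategory Pretriangulated

attribute [local instance] HasDerivedCategory.standard

namespace Groth.Agent.SitePull

open Groth.Agent.KFlat Groth.Agent.CohDerLib.RFLim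

section

variable {A B : Type*} [Category A] [Category B] [Abelian A] [Abelian B] [HasDerivedCategory A]
  [HasDerivedCategory B] (L : A ⥤ B) [L.Additive] [PreservesFiniteLimits L] [PreservesFiniteColimits L]

/-- An exact functor keeps a map invertible in one degree of cohomology. -/
theorem isIso_H_map {X Y : DerivedCategory A} (g : X ⟶ Y) (j : ℤ)
    (h : ∀ i, (i = j - 1 ∨ i = j ∨ i = j + 1) → IsIso ((homologyFunctor A i).map g)) :
    IsIso ((homologyFunctor B j).map (L.mapDerivedCategory.map g)) := by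
  obtain ⟨Z, u, v, hT⟩ := Pretriangulated.distinguished_cocone_triangle g
  let T := Triangle.mk g u v
  have hz : ∀ i, (i = j - 1 ∨ i = j) → IsZero ((homologyFunctor B i).obj (L.mapDerivedCategory.obj Z)) := by
    intro i hi
    refine IsZero.of_iso (L.map_isZero ?_) (Groth.Agent.DTrunc.homologyMapDerivedIso L Z i)
    have := h i (by omega)
    have := h (i + 1) (by omega)
    exact @isZero_homology_obj₃ _ _ _ _ T hT i
      (inferInstanceAs (Epi ((homologyFunctor A i).map g)))
      (inferInstanceAs (Mono ((homologyFunctor A (i + 1)).map g)))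
  have hT' := L.mapDerivedCategory.map_distinguished T hT
  have he : Epi ((homologyFunctor B j).map (L.mapDerivedCategory.map g)) :=
    (HomologySequence.epi_homologyMap_mor₁_iff _ hT' j).2 ((hz j (Or.inr rfl)).eq_of_tgt _ _)
  have hm : Mono ((homologyFunctor B j).map (L.mapDerivedCategory.map g)) :=
    (HomologySequence.mono_homologyMap_mor₁_iff _ hT' (j - 1) j (by omega)).2 ((hz (j - 1) (Or.inl rfl)).eq_of_src _ _)
  exact isIso_of_mono_of_epi _

/-- An exact functor faithful on a class reflects isomorphisms between objects with cohomology in it. -/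
theorem isIso_of_isIso_map (P : ObjectProperty A) [WSerre.IsWeakSerre P]
    (hf : ∀ F G : A, P F → P G → Function.Injective fun φ : F ⟶ G => L.map φ)
    {X Y : DerivedCategory A} (g : X ⟶ Y) (hX : WSerre.cohIn P X) (hY : WSerre.cohIn P Y)
    [IsIso (L.mapDerivedCategory.map g)] : IsIso g := by
  obtain ⟨Z, u, v, hT⟩ := Pretriangulated.distinguished_cocone_triangle g
  have hZ : WSerre.cohIn P Z :=
    Groth.Agent.DTrunc.cohIn_obj₂ P _ (rot_of_distTriang _ hT) hY (Groth.Agent.DTrunc.cohIn_shift P hX 1)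
  have hT' := L.mapDerivedCategory.map_distinguished _ hT
  have h0 : IsZero (L.mapDerivedCategory.obj Z) :=
    (Triangle.isZero₃_iff_isIso₁ _ hT').2 (inferInstanceAs (IsIso (L.mapDerivedCategory.map g)))
  rw [DerivedCategory.isIso_iff]
  intro i
  have hz : ∀ k, IsZero ((homologyFunctor A k).obj Z) := fun k => by
    rw [IsZero.iff_id_eq_zero]
    exact hf _ _ (hZ k) (hZ k) ((((homologyFunctor B k).map_isZero h0).of_iso
      (Groth.Agent.DTrunc.homologyMapDerivedIso L Z k).symm).eq_of_src _ _)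
  have he : Epi ((homologyFunctor A i).map g) :=
    (HomologySequence.epi_homologyMap_mor₁_iff _ hT i).2 ((hz i).eq_of_tgt _ _)
  have hm : Mono ((homologyFunctor A i).map g) :=
    (HomologySequence.mono_homologyMap_mor₁_iff _ hT (i - 1) i (by omega)).2 ((hz (i - 1)).eq_of_src _ _)
  exact isIso_of_mono_of_epi _

end

variable {C D : Type u} [SmallCategory C] [SmallCategory D] {J : GrothendieckTopology C}
  {K : GrothendieckTopology D} {O_C : Sheaf J CommRingCat.{u}} {O_D : Sheaf K CommRingCat.{u}}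
  (f : RMor O_C O_D) [PreservesFiniteLimits f.pull] [SiteCmp.HasRpushD f]
  (adj : SiteCmp.pullD f ⊣ SiteCmp.RpushD f)
  (A : ObjectProperty (Mod O_C)) (A' : ObjectProperty (Mod O_D)) [WSerre.IsWeakSerre A']

include adj in
/-- Derived direct images of single objects of the class have one cohomology object, in the class. -/
theorem single_push (h2c : ∀ F, A F → ∃ F', A' F' ∧ Nonempty (f.pull.obj F' ≅ F))
    (h3 : ∀ F' : Mod O_D, A' F' → IsIso (adj.unit.app (SiteCmp.inD O_D F')))
    (F : Mod O_C) (hF : A F) (q i : ℤ) :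
    A' ((homologyFunctor (Mod O_D) i).obj ((SiteCmp.RpushD f).obj ((singleFunctor (Mod O_C) q).obj F))) ∧
      (0 < i - q → IsZero ((homologyFunctor (Mod O_D) i).obj
        ((SiteCmp.RpushD f).obj ((singleFunctor (Mod O_C) q).obj F)))) := by
  obtain ⟨W, hW, ⟨e⟩⟩ := h2c F hF
  have := h3 W hW
  let e₀ : (singleFunctor (Mod O_D) 0).obj W ≅ (SiteCmp.RpushD f).obj ((singleFunctor (Mod O_C) 0).obj F) :=
    asIso (adj.unit.app (SiteCmp.inD O_D W)) ≪≫ (SiteCmp.RpushD f).mapIso
      ((f.pull.mapDerivedCategorySingleFunctor 0).app W ≪≫ (singleFunctor (Mod O_C) 0).mapIso e)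
  rcases lt_or_ge i q with hi | hi
  · have := isGE_RF f.push ((singleFunctor (Mod O_C) q).obj F) q
    exact ⟨Groth.Agent.DTrunc.prop_of_isZero A' (isZero_of_isGE _ q i hi), fun _ => isZero_of_isGE _ q i hi⟩
  · obtain ⟨p, hp⟩ := Int.le.dest hi
    obtain ⟨e₁⟩ := exists_iso_rightDerived f.push F q i p hp
    obtain ⟨e₂⟩ := exists_iso_rightDerived f.push F 0 (p : ℤ) p (zero_add _)
    let e₃ := e₁ ≪≫ e₂.symm ≪≫ ((homologyFunctor (Mod O_D) (p : ℤ)).mapIso e₀).symm
    refine ⟨A'.prop_of_iso e₃.symm (Groth.Agent.DTrunc.cohIn_single A' hW 0 p), fun h0 => ?_⟩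
    exact (isZero_of_isLE ((singleFunctor (Mod O_D) 0).obj W) 0 (p : ℤ) (by omega)).of_iso e₃

/-- The equivalence, given stabilisation downstairs. -/
theorem equivalence [WSerre.IsWeakSerre A]
    (h2a : ∀ F' : Mod O_D, A' F' → A (f.pull.obj F'))
    (h2b : ∀ F' G' : Mod O_D, A' F' → A' G' → Function.Bijective (fun φ : F' ⟶ G' => f.pull.map φ))
    (h2c : ∀ F, A F → ∃ F', A' F' ∧ Nonempty (f.pull.obj F' ≅ F))
    (h3 : ∀ F' : Mod O_D, A' F' → IsIso (adj.unit.app (SiteCmp.inD O_D F')))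
    (B : Set C) (B' : Set D)
    (hB : ∀ U : C, ∃ (ι : Type u) (Y : ι → C) (g : ∀ i, Y i ⟶ U), Sieve.ofArrows Y g ∈ J U ∧ ∀ i, Y i ∈ B)
    (hA : ∀ V ∈ B, ∃ d : ℕ, ∀ T ∈ J V, ∃ (ι : Type u) (Y : ι → C) (g : ∀ i, Y i ⟶ V),
      (∀ i, T.arrows (g i)) ∧ Sieve.ofArrows Y g ∈ J V ∧
      ∀ (i : ι) (F : Mod O_C), A F → ∀ k : ℕ, d < k → Subsingleton (ModSite.HU O_C F k (Y i)))
    (hB' : ∀ U : D, ∃ (ι : Type u) (Y : ι → D) (g : ∀ i, Y i ⟶ U), Sieve.ofArrows Y g ∈ K U ∧ ∀ i, Y i ∈ B')
    (hstab : ∀ X : DerivedCategory (Mod O_C), WSerre.cohIn A X →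
      (∀ n, WSerre.cohIn A' ((SiteCmp.RpushD f).obj (CohCx.truncTower X n))) →
      ∀ (m : ℤ), ∀ V ∈ B', ∃ N' : ℕ, ∀ T ∈ K V, ∃ (ι : Type u) (Y : ι → D) (g : ∀ i, Y i ⟶ V),
      (∀ i, T.arrows (g i)) ∧ Sieve.ofArrows Y g ∈ K V ∧
      ∀ i, StableAt (K := fun n => (SiteCmp.RpushD f).obj (CohCx.truncTower X n))
        (fun n => (SiteCmp.RpushD f).map (CohCx.truncTowerMap X n)) (freeU O_D (Y i)) m N') :
    (∀ Y : DerivedCategory (Mod O_D), WSerre.cohIn A' Y →
      WSerre.cohIn A ((SiteCmp.pullD f).obj Y) ∧ IsIso (adj.unit.app Y)) ∧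
    (∀ X : DerivedCategory (Mod O_C), WSerre.cohIn A X →
      WSerre.cohIn A' ((SiteCmp.RpushD f).obj X) ∧ IsIso (adj.counit.app X)) := by
  have htr : ∀ X : DerivedCategory (Mod O_C), WSerre.cohIn A X → ∀ n, WSerre.cohInPlus A (CohCx.truncTower X n) := by
    intro X hX n
    have hge : TStructure.t.IsGE (CohCx.truncTower X n) (-(n : ℤ)) :=
      inferInstanceAs (TStructure.t.IsGE ((TStructure.t.truncGE (-(n : ℤ))).obj X) (-(n : ℤ)))
    refine ⟨fun q => ?_, _, hge⟩
    rcases lt_or_ge q (-(n : ℤ)) with hq | hq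
    · exact Groth.Agent.DTrunc.prop_of_isZero A (isZero_of_isGE _ (-(n : ℤ)) q hq)
    · exact A.prop_of_iso (@asIso _ _ _ _ _ (TruncHom.isIso_H_truncGEπ X (-(n : ℤ)) q hq)) (hX q)
  have hcounit : ∀ X : DerivedCategory (Mod O_C), WSerre.cohIn A X →
      WSerre.cohIn A' ((SiteCmp.RpushD f).obj X) ∧ IsIso (adj.counit.app X) := by
    intro X hX
    have hb := fun n => Groth.Agent.DTrunc.cohInPlus_counit adj A' A h3 h2c _ (htr X hX n)
    have hiso : ∀ (n : ℕ) (j : ℤ), 0 - (n : ℤ) ≤ j →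
        IsIso ((homologyFunctor (Mod O_D) j).map ((SiteCmp.RpushD f).map (CohCx.toTruncTower X n))) :=
      isIso_H_push_trunc f A B hB hA X hX 0
        (fun F hF q i hqi => (single_push f adj A A' h2c h3 F hF q i).2 hqi) B' hB'
        (hstab X hX fun n => (hb n).1.1)
    refine ⟨fun j => A'.prop_of_iso (@asIso _ _ _ _ _ (hiso (-j).toNat j (by omega))).symm ((hb _).1.1 j), ?_⟩
    rw [DerivedCategory.isIso_iff]
    intro j
    let n : ℕ := (1 - j).toNat
    let π : X ⟶ CohCx.truncTower X n := CohCx.toTruncTower X n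
    let H := homologyFunctor (Mod O_C) j
    have h₁ : IsIso (H.map ((SiteCmp.pullD f).map ((SiteCmp.RpushD f).map π))) :=
      isIso_H_map f.pull _ j fun i hi => hiso n i (by omega)
    have h₂ : IsIso (H.map (adj.counit.app (CohCx.truncTower X n))) :=
      have := (hb n).2
      inferInstance
    have h₃ : IsIso (H.map π) := TruncHom.isIso_H_truncGEπ X (-(n : ℤ)) j (by omega)
    have hsq : H.map (adj.counit.app X) ≫ H.map π =
        H.map ((SiteCmp.pullD f).map ((SiteCmp.RpushD f).map π)) ≫ H.map (adj.counit.app (CohCx.truncTower X n)) := by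
      rw [← H.map_comp, ← H.map_comp]
      exact congrArg H.map (adj.counit.naturality π).symm
    have : IsIso (H.map (adj.counit.app X) ≫ H.map π) := by
      rw [hsq]
      exact IsIso.comp_isIso' h₁ h₂
    exact IsIso.of_isIso_comp_right _ (H.map π)
  refine ⟨fun Y hY => ?_, hcounit⟩
  have hA : WSerre.cohIn A ((SiteCmp.pullD f).obj Y) := fun q =>
    A.prop_of_iso (Groth.Agent.DTrunc.homologyMapDerivedIso f.pull Y q).symm (h2a _ (hY q))
  obtain ⟨hR, hε⟩ := hcounit _ hA
  refine ⟨hA, ?_⟩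
  have : IsIso ((SiteCmp.pullD f).map (adj.unit.app Y)) := by
    have h := adj.left_triangle_components Y
    have : IsIso ((SiteCmp.pullD f).map (adj.unit.app Y) ≫ adj.counit.app ((SiteCmp.pullD f).obj Y)) := by
      rw [h]; exact (Iso.refl _).isIso_hom
    exact IsIso.of_isIso_comp_right _ (adj.counit.app ((SiteCmp.pullD f).obj Y))
  exact isIso_of_isIso_map f.pull A' (fun F G hF hG => (h2b F G hF hG).1) _ hY hR

end Groth.Agent.SitePull
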