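import Groth.Agent.SitePull.Equiv
import Mathlib.CategoryTheory.Adjunction.FullyFaithful

/-!
# The comparison morphism of two topologies on modules
-/

set_option autoImplicit false
set_option linter.style.haveILetI false

universe u

open CategoryTheory CategoryTheory.Limits Opposite ModSite

namespace Groth.Agent.SitePull

open Groth.Agent.PullFlat Groth.Agent.KFlat
open Groth.Agent.ModFlat (rs)

variable {C : Type u} [SmallCategory C] {J J' : GrothendieckTopology C} (h : J' ≤ J) (O : Sheaf J CommRingCat.{u})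

/-- A map of direct images is a map of the modules. -/
noncomputable def epsPreimage {F G : Mod O} (φ : (SiteCmp.eps h O).push.obj F ⟶ (SiteCmp.eps h O).push.obj G) :
    F ⟶ G :=
  ⟨PresheafOfModules.homMk ((PresheafOfModules.toPresheaf _).map φ.val)
    (fun X r m => (φ.val.app X).hom.map_smul r m)⟩

/-- The direct image of modules along the comparison morphism is fully faithful. -/
noncomputable def epsFullyFaithful : (SiteCmp.eps h O).push.FullyFaithful where
  preimage := epsPreimage h O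
  map_preimage _ := SheafOfModules.hom_ext (PresheafOfModules.hom_ext fun _ => ModuleCat.hom_ext (LinearMap.ext fun _ => rfl))
  preimage_map _ := SheafOfModules.hom_ext (PresheafOfModules.hom_ext fun _ => ModuleCat.hom_ext (LinearMap.ext fun _ => rfl))

theorem isIso_counit_eps : IsIso (SiteCmp.eps h O).adj.counit :=
  have := (epsFullyFaithful h O).full
  have := (epsFullyFaithful h O).faithful
  Adjunction.counit_isIso_of_R_fully_faithful _

/-- `ε^* ε_* F = F`. -/
noncomputable def epsCounitIso (F : Mod O) :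
    (SiteCmp.eps h O).pull.obj ((SiteCmp.eps h O).push.obj F) ≅ F :=
  have := isIso_counit_eps h O
  (asIso (SiteCmp.eps h O).adj.counit).app F

theorem isIso_unit_eps (F : Mod O) : IsIso ((SiteCmp.eps h O).adj.unit.app ((SiteCmp.eps h O).push.obj F)) := by
  have := isIso_counit_eps h O
  have h1 := (SiteCmp.eps h O).adj.right_triangle_components F
  have : IsIso ((SiteCmp.eps h O).adj.unit.app ((SiteCmp.eps h O).push.obj F) ≫
      (SiteCmp.eps h O).push.map ((SiteCmp.eps h O).adj.counit.app F)) := by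
    rw [h1]; exact (Iso.refl _).isIso_hom
  exact IsIso.of_isIso_comp_right _ ((SiteCmp.eps h O).push.map ((SiteCmp.eps h O).adj.counit.app F))

/-- An epimorphism with acyclic kernel on the members of a covering class stays epi for the coarser topology. -/
theorem epi_eps_push_map (B : Set C)
    (hB : ∀ U : C, ∃ (ι : Type u) (Y : ι → C) (g : ∀ i, Y i ⟶ U), Sieve.ofArrows Y g ∈ J' U ∧ ∀ i, Y i ∈ B)
    (S : ShortComplex (Mod O)) (hS : S.ShortExact) (hv : ∀ U ∈ B, Subsingleton (ModSite.HU O S.X₁ 1 U)) :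
    Epi ((SiteCmp.eps h O).push.map S.g) := by
  refine epi_of_locally_surjective _ fun V x => ?_
  obtain ⟨ι, Y, f, hf, hfB⟩ := hB V
  refine ⟨Sieve.ofArrows Y f, hf, fun W g hg => ?_⟩
  obtain ⟨i, b, rfl⟩ := (Sieve.mem_ofArrows_iff _ _ g).1 hg
  have hT := hS.map_of_exact (SheafOfModules.toSheaf (ringSh O))
  have : Subsingleton (CohSite.HU (S.map (SheafOfModules.toSheaf (ringSh O))).X₁ 1 (Y i)) := hv _ (hfB i)
  obtain ⟨y, hy⟩ := Groth.Agent.SiteCoh.Acyclic.surjective_sections hT (Y i) (rs _ (f i) x)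
  let y' : sect ((SiteCmp.eps h O).push.obj S.X₂) (Y i) := y
  refine ⟨rs _ b y', ?_⟩
  rw [appS_res, Groth.Agent.ModFlat.map_val_comp]
  exact congrArg _ hy

/-- The image of a weak Serre class with acyclic members is a weak Serre class. -/
theorem isWeakSerre_map_eps [PreservesFiniteLimits (SiteCmp.eps h O).pull] (A : ObjectProperty (Mod O))
    [WSerre.IsWeakSerre A] (B : Set C)
    (hB : ∀ U : C, ∃ (ι : Type u) (Y : ι → C) (g : ∀ i, Y i ⟶ U), Sieve.ofArrows Y g ∈ J' U ∧ ∀ i, Y i ∈ B)
    (h4 : ∀ U ∈ B, ∀ F : Mod O, A F → ∀ p : ℕ, 0 < p → Subsingleton (ModSite.HU O F p U)) :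
    WSerre.IsWeakSerre (A.map (SiteCmp.eps h O).push) := by
  let f := SiteCmp.eps h O
  have : f.pull.IsLeftAdjoint := f.adj.isLeftAdjoint
  have : f.push.IsRightAdjoint := f.adj.isRightAdjoint
  have : f.push.Full := (epsFullyFaithful h O).full
  have hepi : ∀ S : ShortComplex (Mod O), S.ShortExact → A S.X₁ → Epi (f.push.map S.g) := fun S hS hA =>
    epi_eps_push_map h O B hB S hS fun U hU => h4 U hU _ hA 1 one_pos
  refine { exists_zero := ?_, kernels_le := ?_, cokernels_le := ?_, prop_X₂_of_shortExact := ?_ }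
  · obtain ⟨Z, hZ, hA⟩ := A.exists_prop_of_containsZero
    exact ⟨f.push.obj Z, f.push.map_isZero hZ, A.prop_map_obj f.push hA⟩
  · rintro _ ⟨φ, k, hk, ⟨F, hF, ⟨eF⟩⟩, ⟨G, hG, ⟨eG⟩⟩⟩
    obtain ⟨ψ, hψ⟩ := f.push.map_surjective (eF.hom ≫ φ ≫ eG.inv)
    refine ⟨kernel ψ, A.prop_kernel ψ hF hG, ⟨PreservesKernel.iso f.push ψ ≪≫
      kernel.mapIso (f.push.map ψ) φ eF eG ?_ ≪≫ (kernelIsKernel φ).conePointUniqueUpToIso hk⟩⟩
    rw [hψ]; simp
  · rintro _ ⟨φ, k, hk, ⟨F, hF, ⟨eF⟩⟩, ⟨G, hG, ⟨eG⟩⟩⟩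
    obtain ⟨ψ, hψ⟩ := f.push.map_surjective (eF.hom ≫ φ ≫ eG.inv)
    let p := Abelian.factorThruImage ψ
    let i := Abelian.image.ι ψ
    have hI : A (Abelian.image ψ) := A.prop_kernel _ hG (A.prop_cokernel ψ hF hG)
    let S₁ := ShortComplex.mk (kernel.ι p) p (kernel.condition p)
    have hS₁ : S₁.ShortExact := ShortComplex.ShortExact.mk' (ShortComplex.exact_kernel p) inferInstance inferInstance
    have : Epi (f.push.map p) := hepi S₁ hS₁ (A.prop_kernel p hF hI)
    let S₂ := ShortComplex.mk i (cokernel.π ψ) (kernel.condition _)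
    have hS₂ : S₂.ShortExact := ShortComplex.ShortExact.mk' (ShortComplex.exact_kernel _) inferInstance inferInstance
    have : Epi (f.push.map (cokernel.π ψ)) := hepi S₂ hS₂ hI
    let T := S₂.map f.push
    have hT : T.Exact := ShortComplex.exact_of_f_is_kernel _ (isLimitForkMapOfIsLimit' f.push S₂.zero
      hS₂.fIsKernel)
    have : Epi T.g := this
    let T' := ShortComplex.mk (f.push.map ψ) (f.push.map (cokernel.π ψ))
      ((f.push.map_comp _ _).symm.trans ((congrArg f.push.map (cokernel.condition ψ)).trans (f.push.map_zero _ _)))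
    let α : T' ⟶ T :=
      { τ₁ := f.push.map p, τ₂ := 𝟙 _, τ₃ := 𝟙 _,
        comm₁₂ := ((f.push.map_comp _ _).symm.trans (congrArg f.push.map (Abelian.image.fac ψ))).trans
          (Category.comp_id _).symm
        comm₂₃ := (Category.id_comp _).trans (Category.comp_id _).symm }
    have : Epi α.τ₁ := ‹Epi (f.push.map p)›
    have : IsIso α.τ₂ := (Iso.refl _).isIso_hom
    have : Mono α.τ₃ := (Iso.refl _).isIso_hom.mono_of_iso
    have hT' : T'.Exact := (ShortComplex.exact_iff_of_epi_of_isIso_of_mono α).2 hT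
    have : Epi T'.g := ‹Epi T.g›
    refine ⟨cokernel ψ, A.prop_cokernel ψ hF hG, ⟨(hT'.gIsCokernel).coconePointUniqueUpToIso
      (cokernelIsCokernel (f.push.map ψ)) ≪≫ cokernel.mapIso (f.push.map ψ) φ eF eG ?_ ≪≫
      (cokernelIsCokernel φ).coconePointUniqueUpToIso hk⟩⟩
    rw [hψ]; simp
  · intro S hS h₁ h₃
    obtain ⟨F, hF, ⟨eF⟩⟩ := h₁
    obtain ⟨G, hG, ⟨eG⟩⟩ := h₃
    have hpull := hS.map_of_exact f.pull
    have hF' : A (f.pull.obj S.X₁) := A.prop_of_iso ((epsCounitIso h O F).symm ≪≫ f.pull.mapIso eF) hF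
    have hG' : A (f.pull.obj S.X₃) := A.prop_of_iso ((epsCounitIso h O G).symm ≪≫ f.pull.mapIso eG) hG
    have hunit : ∀ {X : Mod (SiteCmp.epsRing h O)} {F : Mod O}, (f.push.obj F ≅ X) → IsIso (f.adj.unit.app X) :=
      fun {X F} e => by
        have := isIso_unit_eps h O F
        exact (NatTrans.isIso_app_iff_of_iso f.adj.unit e).1 this
    let T := (S.map f.pull).map f.push
    have : Mono (S.map f.pull).f := hpull.mono_f
    have : Mono T.f := inferInstanceAs (Mono (f.push.map (S.map f.pull).f))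
    have : Epi T.g := hepi _ hpull hF'
    have hT : T.ShortExact := ShortComplex.ShortExact.mk' (ShortComplex.exact_of_f_is_kernel _
      (isLimitForkMapOfIsLimit' f.push (S.map f.pull).zero hpull.fIsKernel)) inferInstance inferInstance
    let α : S ⟶ T :=
      { τ₁ := f.adj.unit.app S.X₁, τ₂ := f.adj.unit.app S.X₂, τ₃ := f.adj.unit.app S.X₃
        comm₁₂ := (f.adj.unit.naturality S.f).symm
        comm₂₃ := (f.adj.unit.naturality S.g).symm }
    have : IsIso α.τ₁ := hunit eF
    have : IsIso α.τ₃ := hunit eG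
    have := ShortComplex.isIso₂_of_shortExact_of_isIso₁₃ α hS hT
    exact ⟨f.pull.obj S.X₂, A.prop_X₂_of_shortExact hpull hF' hG', ⟨(asIso α.τ₂).symm⟩⟩

end Groth.Agent.SitePull
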