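import Groth.Agent.KFlat.DerivedLimit
import Groth.Agent.CohDerLib.HComp.Bounded
import Groth.Prelude.Def_CohCx

/-!
# Vanishing and stabilisation of maps out of shifted single objects; maps into derived limits
-/

set_option autoImplicit false

universe w' w v u

open CategoryTheory CategoryTheory.Limits DerivedCategory Pretriangulated

namespace Groth.Agent.SitePull

open Groth.Agent.KFlat

section

variable {A : Type u} [Category.{v} A] [Abelian A] [HasDerivedCategory.{w} A]

/-- Every map `G[-m] ⟶ M[-j]` is zero. -/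
def Null (G M : A) (m j : ℤ) : Prop :=
  ∀ f : (singleFunctor A m).obj G ⟶ (singleFunctor A j).obj M, f = 0

theorem Null.of_iso {G M M' : A} {m j : ℤ} (h : Null G M m j) (e : M' ≅ M) : Null G M' m j := fun f => by
  rw [← cancel_mono ((singleFunctor A j).map e.hom), zero_comp]
  exact h _

theorem null_of_lt (G M : A) {m j : ℤ} (h : m < j) : Null G M m j := fun _ =>
  TStructure.t.zero_of_isLE_of_isGE _ m j h inferInstance inferInstance

theorem null_of_isZero (G : A) {M : A} (h : IsZero M) (m j : ℤ) : Null G M m j := fun _ =>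
  (Functor.map_isZero (singleFunctor A j) h).eq_of_tgt _ _

theorem null_of_ext [HasExt.{w'} A] (G M : A) (m j : ℤ) (k : ℕ) (hk : j + k = m)
    (h : Subsingleton (Abelian.Ext G M k)) : Null G M m j := fun f => by
  have h' := CohDerLib.HComp.subsingleton_hom_single G M j m k hk h
  let e := ((singleFunctors A).shiftIso m 0 m (by omega)).app G
  have h0 : e.inv ≫ f⟦m⟧' = 0 := h'.elim _ _
  refine (shiftFunctor (DerivedCategory A) m).map_injective ?_
  rw [← cancel_epi e.inv, Functor.map_zero, comp_zero]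
  exact h0

/-- Vanishing of maps into a bounded below object from its cohomology. -/
theorem hom_eq_zero_of_isGE (G : A) (m : ℤ) : ∀ (d : ℕ) (a : ℤ) (X : DerivedCategory A), m < a + d → X.IsGE a →
    (∀ j, j ≤ m → Null G ((homologyFunctor A j).obj X) m j) →
    ∀ g : (singleFunctor A m).obj G ⟶ X, g = 0
  | 0, a, X, hd, hX, _ => fun g => TStructure.t.zero_of_isLE_of_isGE g m a (by omega) inferInstance hX
  | d + 1, a, X, hd, hX, hv => fun g => by
    rcases lt_or_ge m a with hma | hma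
    · exact TStructure.t.zero_of_isLE_of_isGE g m a hma inferInstance hX
    let T := (TStructure.t.triangleLTGE (a + 1)).obj X
    have hT := TStructure.t.triangleLTGE_distinguished (a + 1) X
    obtain ⟨Y, ⟨eY⟩, ⟨e⟩⟩ := TruncHom.truncLT_succ_iso_single X a hX
    have h₃ : T.obj₃.IsGE (a + 1) :=
      inferInstanceAs (TStructure.t.IsGE ((TStructure.t.truncGE (a + 1)).obj X) (a + 1))
    have hπ : g ≫ T.mor₂ = 0 := hom_eq_zero_of_isGE G m d (a + 1) T.obj₃ (by omega) h₃ (fun j hj => by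
      rcases le_or_gt (a + 1) j with hj' | hj'
      · have := TruncHom.isIso_H_truncGEπ X (a + 1) j hj'
        exact (hv j hj).of_iso (asIso ((homologyFunctor A j).map ((TStructure.t.truncGEπ (a + 1)).app X))).symm
      · exact null_of_isZero G (isZero_of_isGE T.obj₃ (a + 1) j hj') m j) _
    obtain ⟨g', hg'⟩ := Triangle.coyoneda_exact₂ T hT g hπ
    have h0 : g' ≫ e.hom = 0 := (hv a hma).of_iso eY _
    exact hg'.trans ((congrArg (· ≫ T.mor₁) ((cancel_mono e.hom).1 (h0.trans zero_comp.symm))).trans zero_comp)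

/-- Maps into a bounded below object with null cohomology vanish. -/
theorem eq_zero_of_isGE (G : A) (m a : ℤ) (X : DerivedCategory A) [hX : X.IsGE a]
    (hv : ∀ j, j ≤ m → Null G ((homologyFunctor A j).obj X) m j)
    (g : (singleFunctor A m).obj G ⟶ X) : g = 0 :=
  hom_eq_zero_of_isGE G m (m + 1 - a).toNat a X (by omega) hX hv g

/-- Postcomposition with a map whose cone receives no maps is surjective. -/
theorem comp_surjective {X Y Z W : DerivedCategory A} {t : X ⟶ Y} {g : Y ⟶ Z} {h : Z ⟶ X⟦(1 : ℤ)⟧}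
    (hT : Triangle.mk t g h ∈ distTriang (DerivedCategory A)) (h0 : ∀ f : W ⟶ Z, f = 0) :
    Function.Surjective fun y : W ⟶ X => y ≫ t := fun y => by
  obtain ⟨x, hx⟩ := Triangle.coyoneda_exact₂ _ hT y (h0 _)
  exact ⟨x, hx.symm⟩

/-- Postcomposition with a map whose cone receives no maps after shifting is injective. -/
theorem comp_injective {X Y Z W : DerivedCategory A} {t : X ⟶ Y} {g : Y ⟶ Z} {h : Z ⟶ X⟦(1 : ℤ)⟧}
    (hT : Triangle.mk t g h ∈ distTriang (DerivedCategory A)) (h0 : ∀ f : W⟦(1 : ℤ)⟧ ⟶ Z, f = 0) :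
    Function.Injective fun y : W ⟶ X => y ≫ t := fun y y' hy => by
  refine sub_eq_zero.1 ((shiftFunctor (DerivedCategory A) (1 : ℤ)).map_injective ?_)
  have hz : (y - y')⟦(1 : ℤ)⟧' ≫ t⟦(1 : ℤ)⟧' = 0 := by
    rw [← Functor.map_comp, Preadditive.sub_comp, sub_eq_zero.2 hy, Functor.map_zero]
  obtain ⟨k, hk⟩ := Triangle.coyoneda_exact₃ _ (rot_of_distTriang _ hT) ((y - y')⟦(1 : ℤ)⟧') (by
    change _ ≫ (-t⟦(1 : ℤ)⟧') = 0
    exact (Preadditive.comp_neg _ _).trans ((congrArg (- ·) hz).trans neg_zero))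
  refine (hk.trans ((congrArg (· ≫ _) (h0 k)).trans zero_comp)).trans (Functor.map_zero _ _ _).symm

/-- `(G[-m])[1] = G[-(m - 1)]`. -/
noncomputable def shiftSingle (G : A) (m : ℤ) :
    ((singleFunctor A m).obj G)⟦(1 : ℤ)⟧ ≅ (singleFunctor A (m - 1)).obj G :=
  ((singleFunctors A).shiftIso 1 (m - 1) m (by omega)).app G

theorem comp_injective_single {X Y Z : DerivedCategory A} {t : X ⟶ Y} {g : Y ⟶ Z} {h : Z ⟶ X⟦(1 : ℤ)⟧}
    (hT : Triangle.mk t g h ∈ distTriang (DerivedCategory A)) (G : A) (m : ℤ)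
    (h0 : ∀ f : (singleFunctor A (m - 1)).obj G ⟶ Z, f = 0) :
    Function.Injective fun y : (singleFunctor A m).obj G ⟶ X => y ≫ t :=
  comp_injective hT fun f => by
    rw [← cancel_epi (shiftSingle G m).inv, comp_zero]
    exact h0 _

variable {K : ℕ → DerivedCategory A} {t : ∀ n, K (n + 1) ⟶ K n} [HasProduct K] {L : DerivedCategory A}
  {a : ∀ n, L ⟶ K n}

theorem comp_transition (hL : CohCx.IsRlimVia K t L a) (n : ℕ) : a (n + 1) ≫ t n = a n := by
  obtain ⟨c, hc⟩ := hL
  have h : (Pi.lift a ≫ Pi.lift fun n => Pi.π K n - Pi.π K (n + 1) ≫ t n) ≫ Pi.π K n = 0 :=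
    (congrArg (· ≫ Pi.π K n) (comp_distTriang_mor_zero₁₂ _ hc)).trans zero_comp
  rw [Category.assoc, Pi.lift_π, Preadditive.comp_sub, Pi.lift_π, Pi.lift_π_assoc, sub_eq_zero] at h
  exact h.symm

theorem exists_solution {M : ℕ → Type w} [∀ n, AddCommGroup (M n)] (s : ∀ n, M (n + 1) →+ M n)
    (N : ℕ) (hs : ∀ n, N ≤ n → Function.Surjective (s n)) (b : ∀ n, M n) :
    ∃ x : ∀ n, M n, ∀ n, x n - s n (x (n + 1)) = b n := by
  induction N generalizing M with
  | zero =>
    choose r hr using fun n => hs n (Nat.zero_le n)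
    let x : ∀ n, M n := fun n => Nat.rec (motive := fun n => M n) 0 (fun n xn => r n (xn - b n)) n
    refine ⟨x, fun n => ?_⟩
    show x n - s n (r n (x n - b n)) = b n
    rw [hr, sub_sub_cancel]
  | succ N ih =>
    obtain ⟨x, hx⟩ := ih (M := fun n => M (n + 1)) (fun n => s (n + 1)) (fun n hn => hs (n + 1) (by omega))
      (fun n => b (n + 1))
    refine ⟨fun n => Nat.casesOn (motive := fun n => M n) n (b 0 + s 0 (x 0)) x, fun n => ?_⟩
    cases n with
    | zero => exact add_sub_cancel_right (b 0) (s 0 (x 0))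
    | succ n => exact hx n

/-- A map into a derived limit killed by every projection vanishes when the transitions are eventually
surjective one degree below. -/
theorem eq_zero_of_rlim (hL : CohCx.IsRlimVia K t L a) {W : DerivedCategory A} (N : ℕ)
    (hs : ∀ n, N ≤ n → Function.Surjective fun y : W⟦(1 : ℤ)⟧ ⟶ K (n + 1) => y ≫ t n)
    (y : W ⟶ L) (hy : ∀ n, y ≫ a n = 0) : y = 0 := by
  obtain ⟨c, hc⟩ := hL
  refine (shiftFunctor (DerivedCategory A) (1 : ℤ)).map_injective ?_
  have hz : y ≫ Pi.lift a = 0 := Pi.hom_ext _ _ fun n => by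
    rw [Category.assoc, Pi.lift_π, hy, zero_comp]
  obtain ⟨k, hk⟩ := Triangle.coyoneda_exact₃ _ (rot_of_distTriang _ hc) (y⟦(1 : ℤ)⟧') (by
    change y⟦(1 : ℤ)⟧' ≫ (-(Pi.lift a)⟦(1 : ℤ)⟧') = 0
    exact (Preadditive.comp_neg _ _).trans ((congrArg (- ·) ((Functor.map_comp _ _ _).symm.trans
      ((congrArg (shiftFunctor (DerivedCategory A) (1 : ℤ)).map hz).trans (Functor.map_zero _ _ _)))).trans neg_zero))
  obtain ⟨x, hx⟩ := exists_solution (M := fun n => W⟦(1 : ℤ)⟧ ⟶ K n)
    (fun n => Preadditive.rightComp _ (t n)) N hs fun n => k ≫ Pi.π K n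
  have hd : Pi.lift x ≫ (Pi.lift fun n => Pi.π K n - Pi.π K (n + 1) ≫ t n) = k := Pi.hom_ext _ _ fun n => by
    rw [Category.assoc, Pi.lift_π, Preadditive.comp_sub, Pi.lift_π, Pi.lift_π_assoc]
    exact hx n
  refine Eq.trans ?_ (Functor.map_zero _ _ _).symm
  exact hk.trans ((congrArg (· ≫ _) hd.symm).trans ((Category.assoc _ _ _).trans
    ((congrArg (Pi.lift x ≫ ·) (comp_distTriang_mor_zero₂₃ _ hc)).trans comp_zero)))

/-- Compatible maps lift to a derived limit. -/
theorem exists_lift_rlim (hL : CohCx.IsRlimVia K t L a) {W : DerivedCategory A} (x : ∀ n, W ⟶ K n)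
    (hx : ∀ n, x (n + 1) ≫ t n = x n) : ∃ y : W ⟶ L, ∀ n, y ≫ a n = x n := by
  obtain ⟨c, hc⟩ := hL
  have h0 : Pi.lift x ≫ (Pi.lift fun n => Pi.π K n - Pi.π K (n + 1) ≫ t n) = 0 := Pi.hom_ext _ _ fun n => by
    rw [Category.assoc, Pi.lift_π, zero_comp, Preadditive.comp_sub, Pi.lift_π, Pi.lift_π_assoc, sub_eq_zero, hx]
  obtain ⟨g, hg⟩ := Triangle.coyoneda_exact₂ _ hc (Pi.lift x) h0
  refine ⟨g, fun n => ?_⟩
  rw [← Pi.lift_π x n, ← Pi.lift_π a n, ← Category.assoc]
  exact congrArg (· ≫ Pi.π K n) hg.symm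

/-- A compatible family through a given element of a stage with surjective later transitions. -/
theorem exists_compatible {D : Type*} [Category D] {S : D} (K : ℕ → D) (t : ∀ n, K (n + 1) ⟶ K n) (N : ℕ)
    (ht : ∀ n, N ≤ n → Function.Surjective fun g : S ⟶ K (n + 1) => g ≫ t n) (v : S ⟶ K N) :
    ∃ x : ∀ n, S ⟶ K n, x N = v ∧ ∀ n, x (n + 1) ≫ t n = x n := by
  induction N generalizing K with
  | zero =>
    choose r hr using fun n => ht n (Nat.zero_le n)
    exact ⟨fun n => Nat.rec (motive := fun n => S ⟶ K n) v (fun n xn => r n xn) n, rfl, fun n => hr n _⟩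
  | succ N ih =>
    obtain ⟨x, hx, hc⟩ := ih (fun n => K (n + 1)) (fun n => t (n + 1)) (fun n hn => ht (n + 1) (by omega)) v
    refine ⟨fun n => Nat.casesOn (motive := fun n => S ⟶ K n) n (x 0 ≫ t 0) x, hx, fun n => ?_⟩
    cases n with
    | zero => rfl
    | succ n => exact hc n

/-- A map out of a single object which is zero in cohomology vanishes after a refinement. -/
theorem exists_refine_zero {P : A} {m : ℤ} {M : DerivedCategory A} (g : (singleFunctor A m).obj P ⟶ M)
    (hg : TruncHom.Φ P m M g = 0) :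
    ∃ (P' : A) (π : P' ⟶ P), Epi π ∧ (singleFunctor A m).map π ≫ g = 0 := by
  have := TruncHom.isIso_H_truncGEπ M m m le_rfl
  have h1 : g ≫ (TStructure.t.truncGEπ m).app M = 0 :=
    (TruncHom.Φ_bijective_of_isGE_self P m ((TStructure.t.truncGE m).obj M)
      (inferInstanceAs (TStructure.t.IsGE ((TStructure.t.truncGE m).obj M) m))).1 (by
        rw [TruncHom.Φ_comp, hg, zero_comp, map_zero])
  obtain ⟨g', hg'⟩ := Triangle.coyoneda_exact₂ _ (TStructure.t.triangleLTGE_distinguished m M) g h1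
  let M' := (TStructure.t.truncLT m).obj M
  have hz : IsZero ((homologyFunctor A 0).obj (M'⟦m⟧)) := by
    have h : TStructure.t.IsLE M' (m - 1) := TStructure.t.isLE_truncLT_obj M m (m - 1) (by omega)
    have : TStructure.t.IsLE (M'⟦m⟧) (-1) := TStructure.t.isLE_shift M' (m - 1) m (-1) (by omega)
    exact isZero_of_isLE (M'⟦m⟧) (-1) 0 (by omega)
  let e := ((singleFunctors A).shiftIso m 0 m (by omega))
  obtain ⟨P', π, hπ, h0⟩ := CohDerLib.HComp.exists_refine_zero (X := P) (M := M'⟦m⟧)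
    (e.inv.app P ≫ g'⟦m⟧') (hz.eq_of_tgt _ _)
  have hn : (singleFunctor A 0).map π ≫ e.inv.app P =
      e.inv.app P' ≫ ((singleFunctor A m).map π)⟦m⟧' := e.inv.naturality π
  have h2 : (singleFunctor A m).map π ≫ g' = 0 := by
    refine (shiftFunctor (DerivedCategory A) m).map_injective ?_
    rw [← cancel_epi (e.inv.app P'), Functor.map_comp, Functor.map_zero, comp_zero]
    refine (Category.assoc _ _ _).symm.trans ((congrArg (· ≫ g'⟦m⟧') hn.symm).trans ?_)
    exact (Category.assoc _ _ _).trans h0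
  refine ⟨P', π, hπ, ?_⟩
  rw [hg']
  exact (Category.assoc _ _ _).symm.trans ((congrArg (· ≫ _) h2).trans zero_comp)

end

end Groth.Agent.SitePull
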