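import Groth.Agent.CohDerLib.RFLim.Main
import Groth.Agent.SitePull.HomVan
import Groth.Agent.DTrunc.CohIn
import Groth.Agent.DHA.KInj.Products
import Mathlib.CategoryTheory.Abelian.RightDerived
import Mathlib.CategoryTheory.Abelian.Injective.Extend
import Mathlib.Algebra.Homology.Embedding.ExtendHomology
import Mathlib.Algebra.Homology.Factorizations.CM5a

/-!
# Homology of total right derived functors on bounded below objects
-/

set_option autoImplicit false

universe w w' v u v' u'

open CategoryTheory CategoryTheory.Limits DerivedCategory Pretriangulated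

namespace Groth.Agent.SitePull

open Groth.Agent.CohDerLib.RFLim

section Extend

variable {A B : Type*} [Category A] [Category B] [Abelian A] [Abelian B] (F : A ⥤ B) [F.Additive]
  {ι ι' : Type*} {c : ComplexShape ι} {c' : ComplexShape ι'} (e : c.Embedding c') (K : HomologicalComplex A c)

open Classical in
/-- Components of `mapExtendIso`. -/
noncomputable def mapExtendXIso (i' : ι') :
    F.obj ((K.extend e).X i') ≅ (((F.mapHomologicalComplex c).obj K).extend e).X i' :=
  if h : ∃ i, e.f i = i' then
    F.mapIso (K.extendXIso e h.choose_spec) ≪≫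
      (((F.mapHomologicalComplex c).obj K).extendXIso e h.choose_spec).symm
  else (F.map_isZero (K.isZero_extend_X e i' fun i hi => h ⟨i, hi⟩)).iso
    (((F.mapHomologicalComplex c).obj K).isZero_extend_X e i' fun i hi => h ⟨i, hi⟩)

theorem mapExtendXIso_hom {i' : ι'} {i : ι} (h : e.f i = i') :
    (mapExtendXIso F e K i').hom = F.map (K.extendXIso e h).hom ≫
      (((F.mapHomologicalComplex c).obj K).extendXIso e h).inv := by
  have h' : ∃ i, e.f i = i' := ⟨i, h⟩
  simp only [mapExtendXIso, dif_pos h']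
  obtain rfl : h'.choose = i := e.injective_f (h'.choose_spec.trans h.symm)
  rfl

theorem conj_aux {C : Type*} [Category C] {X Y Z W Y' W' : C} (a : X ⟶ Y) (b : Y' ≅ Y) (g : Y ⟶ W)
    (c : W' ≅ W) (z : W ⟶ Z) :
    (a ≫ b.inv) ≫ b.hom ≫ g ≫ z = (a ≫ g ≫ c.inv) ≫ c.hom ≫ z := by
  simp

/-- Termwise functors commute with extensions by zero. -/
noncomputable def mapExtendIso :
    (F.mapHomologicalComplex c').obj (K.extend e) ≅ ((F.mapHomologicalComplex c).obj K).extend e :=
  HomologicalComplex.Hom.isoOfComponents (mapExtendXIso F e K) fun i' j' _ => by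
    by_cases hi : ∃ i, e.f i = i'
    · by_cases hj : ∃ j, e.f j = j'
      · obtain ⟨i, hi⟩ := hi
        obtain ⟨j, hj⟩ := hj
        rw [mapExtendXIso_hom F e K hi, mapExtendXIso_hom F e K hj]
        change _ ≫ (((F.mapHomologicalComplex c).obj K).extend e).d i' j' = F.map ((K.extend e).d i' j') ≫ _
        rw [((F.mapHomologicalComplex c).obj K).extend_d_eq e hi hj, K.extend_d_eq e hi hj,
          Functor.mapHomologicalComplex_obj_d, F.map_comp, F.map_comp]
        exact conj_aux (F.map (K.extendXIso e hi).hom) (((F.mapHomologicalComplex c).obj K).extendXIso e hi)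
          (F.map (K.d i j)) (F.mapIso (K.extendXIso e hj)) (((F.mapHomologicalComplex c).obj K).extendXIso e hj).inv
      · exact (HomologicalComplex.isZero_extend_X _ e j' fun j hj' => hj ⟨j, hj'⟩).eq_of_tgt _ _
    · exact (F.map_isZero (K.isZero_extend_X e i' fun i hi' => hi ⟨i, hi'⟩)).eq_of_src _ _

end Extend

variable {A : Type u} [Category.{v} A] [Abelian A] [IsGrothendieckAbelian.{v} A]
  [HasDerivedCategory.{w} A] {B : Type u'} [Category.{v'} B] [Abelian B] [HasDerivedCategory.{w'} B]
  (F : A ⥤ B) [F.Additive]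
  [(F.mapHomotopyCategory (ComplexShape.up ℤ) ⋙ Qh).HasRightDerivedFunctor
    (HomotopyCategory.quasiIso A (ComplexShape.up ℤ))]

/-- `RF` on a bounded below complex of injectives. -/
noncomputable def RFIso (I : CochainComplex A ℤ) (a : ℤ) [I.IsStrictlyGE a] [∀ n, Injective (I.X n)]
    {X : DerivedCategory A} (e : Q.obj I ≅ X) :
    Q.obj ((F.mapHomologicalComplex (ComplexShape.up ℤ)).obj I) ≅ (RF F).obj X :=
  have := CochainComplex.isKInjective_of_injective I a
  @asIso _ _ _ _ _ (isIso_toRF F I) ≪≫ (RF F).mapIso e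

theorem isGE_RF (X : DerivedCategory A) (a : ℤ) [X.IsGE a] : ((RF F).obj X).IsGE a := by
  obtain ⟨K, hK, ⟨e⟩⟩ := X.exists_iso_Q_obj_of_isGE a
  obtain ⟨I, i, hi, hI, hI'⟩ := CochainComplex.Plus.modelCategoryQuillen.exists_quasiIso_injective K a
  have : CochainComplex.IsStrictlyGE ((F.mapHomologicalComplex (ComplexShape.up ℤ)).obj I) a := by
    rw [CochainComplex.isStrictlyGE_iff]
    exact fun k hk => F.map_isZero (I.isZero_of_isStrictlyGE a k hk)
  exact ⟨_, (RFIso F I a ((asIso (Q.map i)).symm ≪≫ e.symm)).symm, this⟩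

variable [HasInjectiveResolutions A]

/-- `H^(q+p)(RF(M[-q])) = R^pF(M)`. -/
theorem exists_iso_rightDerived (M : A) (q i : ℤ) (p : ℕ) (h : q + p = i) :
    Nonempty ((homologyFunctor B i).obj ((RF F).obj ((singleFunctor A q).obj M)) ≅ (F.rightDerived p).obj M) := by
  let R := injectiveResolution M
  let I := R.cochainComplex
  let I' := I⟦(-q : ℤ)⟧
  have : I'.IsStrictlyGE q := I.isStrictlyGE_shift 0 (-q) q (by omega)
  have : ∀ n, Injective (I'.X n) := fun n => inferInstanceAs (Injective (I.X (n + -q)))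
  let e : Q.obj I' ≅ (singleFunctor A q).obj M :=
    (Q.commShiftIso (-q : ℤ)).app I ≪≫ (shiftFunctor (DerivedCategory A) (-q : ℤ)).mapIso
      ((asIso (Q.map R.ι')).symm ≪≫
        (((SingleFunctors.evaluation _ _ 0).mapIso (singleFunctorsPostcompQIso A)).app M).symm) ≪≫
      ((singleFunctors A).shiftIso (-q) q 0 (by omega)).app M
  let FI := (F.mapHomologicalComplex (ComplexShape.up ℤ)).obj I
  exact ⟨(homologyFunctor B i).mapIso ((RFIso F I' q e).symm ≪≫
      Q.mapIso (((F.mapHomologicalComplex (ComplexShape.up ℤ)).commShiftIso (-q : ℤ)).app I)) ≪≫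
    (homologyFunctorFactors B i).app (FI⟦(-q : ℤ)⟧) ≪≫
    ((HomologicalComplex.homologyFunctor B (ComplexShape.up ℤ) 0).shiftIso (-q) i (p : ℤ) (by omega)).app FI ≪≫
    HomologicalComplex.homologyMapIso (mapExtendIso F ComplexShape.embeddingUpNat R.cocomplex) p ≪≫
    ((F.mapHomologicalComplex (ComplexShape.up ℕ)).obj R.cocomplex).extendHomologyIso
      ComplexShape.embeddingUpNat (show ComplexShape.embeddingUpNat.f p = (p : ℤ) from rfl) ≪≫
    (R.isoRightDerivedObj F p).symm⟩

end Groth.Agent.SitePull
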