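import Groth.Prelude.Def_SiteCmp
import Groth.Prelude.Def_CohCx
import Groth.Agent.SiteCoh.Free
import Mathlib.CategoryTheory.Abelian.SerreClass.Basic
import Mathlib.GroupTheory.OrderOfElement
import Mathlib.Algebra.FreeAbelianGroup.Finsupp

/-!
# The torsion subsheaf
-/

set_option autoImplicit false

universe u

open CategoryTheory CategoryTheory.Limits Opposite

namespace Groth.Agent.SitePull.Tors

variable {C : Type u} [SmallCategory C] (J : GrothendieckTopology C)

/-- The locally torsion sections. -/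
def torsAt (F : Sheaf J AddCommGrpCat.{u}) (U : Cᵒᵖ) : AddSubgroup (F.obj.obj U) where
  carrier := { s | ∃ S ∈ J U.unop, ∀ ⦃V : C⦄ (g : V ⟶ U.unop), S g → IsOfFinAddOrder ((F.obj.map g.op).hom s) }
  zero_mem' := ⟨⊤, J.top_mem _, fun V g _ => by rw [map_zero]; exact IsOfFinAddOrder.zero⟩
  add_mem' := by
    rintro a b ⟨S, hS, hS'⟩ ⟨T, hT, hT'⟩
    refine ⟨S ⊓ T, J.intersection_covering hS hT, fun V g hg => ?_⟩
    rw [map_add]
    exact (AddCommute.all _ _).isOfFinAddOrder_add (hS' g hg.1) (hT' g hg.2)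
  neg_mem' := by
    rintro a ⟨S, hS, hS'⟩
    refine ⟨S, hS, fun V g hg => ?_⟩
    rw [map_neg]
    exact (hS' g hg).neg

theorem torsAt_map (F : Sheaf J AddCommGrpCat.{u}) {U V : Cᵒᵖ} (f : U ⟶ V) {s : F.obj.obj U}
    (hs : s ∈ torsAt J F U) : (F.obj.map f).hom s ∈ torsAt J F V := by
  obtain ⟨S, hS, hS'⟩ := hs
  refine ⟨S.pullback f.unop, J.pullback_stable _ hS, fun W g hg => ?_⟩
  rw [← ConcreteCategory.comp_apply, ← F.obj.map_comp]
  exact hS' (g ≫ f.unop) hg

/-- The presheaf of locally torsion sections. -/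
def torsPre (F : Sheaf J AddCommGrpCat.{u}) : Cᵒᵖ ⥤ AddCommGrpCat.{u} where
  obj U := AddCommGrpCat.of (torsAt J F U)
  map f := AddCommGrpCat.ofHom
    (((F.obj.map f).hom.comp (torsAt J F _).subtype).codRestrict _ fun s => torsAt_map J F f s.2)
  map_id U := by
    ext s
    exact ConcreteCategory.congr_hom (F.obj.map_id U) s.1
  map_comp f g := by
    ext s
    exact ConcreteCategory.congr_hom (F.obj.map_comp f g) s.1

theorem isSheaf_torsPre (F : Sheaf J AddCommGrpCat.{u}) : Presheaf.IsSheaf J (torsPre J F) := by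
  refine Presheaf.isSheaf_of_isSheaf_comp J _ (forget AddCommGrpCat.{u}) ?_
  rw [isSheaf_iff_isSheaf_of_type]
  intro U S hS x hx
  have hF : Presieve.IsSheaf J (F.obj ⋙ forget AddCommGrpCat.{u}) :=
    (isSheaf_iff_isSheaf_of_type J _).1 (Presheaf.isSheaf_comp_of_isSheaf J F.obj (forget _) F.property)
  let y : Presieve.FamilyOfElements (F.obj ⋙ forget AddCommGrpCat.{u}) S.arrows := fun V g hg => (x g hg).1
  have hy : y.Compatible := fun Y₁ Y₂ Z g₁ g₂ f₁ f₂ h₁ h₂ e => congrArg Subtype.val (hx g₁ g₂ h₁ h₂ e)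
  obtain ⟨s, hs, huniq⟩ := hF S hS y hy
  have hmem : (s : F.obj.obj (op U)) ∈ torsAt J F (op U) := by
    choose T hT hT' using fun V (g : V ⟶ U) (hg : S g) => (x g hg).2
    refine ⟨Sieve.bind S.arrows fun V g hg => T V g hg, J.bind_covering hS fun V g hg => hT V g hg, ?_⟩
    rintro W _ ⟨V, a, g, hg, ha, rfl⟩
    have h1 : (F.obj.map g.op).hom s = (x g hg).1 := hs g hg
    rw [op_comp, F.obj.map_comp, ConcreteCategory.comp_apply]
    rw [h1]
    exact hT' V g hg a ha
  refine ⟨⟨s, hmem⟩, fun V g hg => Subtype.ext (hs g hg), fun s' hs' => Subtype.ext ?_⟩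
  exact huniq s'.1 fun V g hg => congrArg Subtype.val (hs' g hg)

/-- The torsion subsheaf. -/
def torsSheaf (F : Sheaf J AddCommGrpCat.{u}) : Sheaf J AddCommGrpCat.{u} := ⟨torsPre J F, isSheaf_torsPre J F⟩

theorem isTorsion_torsSheaf (F : Sheaf J AddCommGrpCat.{u}) : SiteCmp.torsionSh J (torsSheaf J F) := fun U s => by
  obtain ⟨S, hS, hS'⟩ := s.2
  exact ⟨S, hS, fun V g hg =>
    (isOfFinAddOrder_iff_nsmul_eq_zero).2 (by
      obtain ⟨n, hn, h⟩ := (isOfFinAddOrder_iff_nsmul_eq_zero).1 (hS' g hg)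
      exact ⟨n, hn, Subtype.ext h⟩)⟩

/-- The inclusion. -/
def incl (F : Sheaf J AddCommGrpCat.{u}) : torsSheaf J F ⟶ F :=
  ⟨{ app := fun U => AddCommGrpCat.ofHom (torsAt J F U).subtype, naturality := fun _ _ _ => rfl }⟩

theorem map_mem {A F : Sheaf J AddCommGrpCat.{u}} (hA : SiteCmp.torsionSh J A) (φ : A ⟶ F) (U : Cᵒᵖ)
    (s : A.obj.obj U) : (φ.hom.app U).hom s ∈ torsAt J F U := by
  obtain ⟨S, hS, hS'⟩ := hA U.unop s
  refine ⟨S, hS, fun V g hg => ?_⟩
  rw [← ConcreteCategory.comp_apply, ← φ.hom.naturality, ConcreteCategory.comp_apply]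
  exact (φ.hom.app (op V)).hom.isOfFinAddOrder (hS' g hg)

/-- Factorisation of maps from torsion sheaves. -/
def lift {A F : Sheaf J AddCommGrpCat.{u}} (hA : SiteCmp.torsionSh J A) (φ : A ⟶ F) : A ⟶ torsSheaf J F :=
  ⟨{ app := fun U => AddCommGrpCat.ofHom ((φ.hom.app U).hom.codRestrict _ (map_mem J hA φ U))
     naturality := fun U V f => by
       ext s
       exact Subtype.ext (ConcreteCategory.congr_hom (φ.hom.naturality f) s) }⟩

theorem lift_incl {A F : Sheaf J AddCommGrpCat.{u}} (hA : SiteCmp.torsionSh J A) (φ : A ⟶ F) :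
    lift J hA φ ≫ incl J F = φ := rfl

theorem incl_cancel {A F : Sheaf J AddCommGrpCat.{u}} {φ ψ : A ⟶ torsSheaf J F} (h : φ ≫ incl J F = ψ ≫ incl J F) :
    φ = ψ := by
  apply Sheaf.hom_ext
  ext U s
  exact Subtype.ext (ConcreteCategory.congr_hom (NatTrans.congr_app (congrArg (·.hom) h) U) s)

instance mono_incl (F : Sheaf J AddCommGrpCat.{u}) : Mono (incl J F) := ⟨fun _ _ h => incl_cancel J h⟩

/-- The torsion functor. -/
def torsFunctor : Sheaf J AddCommGrpCat.{u} ⥤ (SiteCmp.torsionSh J).FullSubcategory where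
  obj F := ⟨torsSheaf J F, isTorsion_torsSheaf J F⟩
  map {F _} φ := ObjectProperty.homMk (lift J (isTorsion_torsSheaf J F) (incl J F ≫ φ))
  map_id _ := ObjectProperty.hom_ext _ (incl_cancel J rfl)
  map_comp _ _ := ObjectProperty.hom_ext _ (incl_cancel J rfl)

/-- The inclusion of torsion sheaves is left adjoint to the torsion functor. -/
def adj : (SiteCmp.torsionSh J).ι ⊣ torsFunctor J :=
  Adjunction.mkOfHomEquiv
    { homEquiv := fun A F =>
        { toFun := fun φ => ObjectProperty.homMk (lift J A.2 φ)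
          invFun := fun ψ => ψ.hom ≫ incl J F
          left_inv := fun _ => rfl
          right_inv := fun _ => ObjectProperty.hom_ext _ (incl_cancel J rfl) }
      homEquiv_naturality_left_symm := fun _ _ => rfl
      homEquiv_naturality_right := fun _ _ => ObjectProperty.hom_ext _ (incl_cancel J rfl) }

theorem counit_app (F : Sheaf J AddCommGrpCat.{u}) : (adj J).counit.app F = incl J F :=
  incl_eq J F
where
  incl_eq (J : GrothendieckTopology C) (F : Sheaf J AddCommGrpCat.{u}) : (adj J).counit.app F = incl J F := rfl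

section Divisible

/-- Multiplication by a nonzero integer on an injective sheaf is surjective. -/
theorem epi_nsmul (I : Sheaf J AddCommGrpCat.{u}) [Injective I] (n : ℕ) (hn : n ≠ 0) : Epi (n • 𝟙 I) := by
  have hmono : ∀ U : C, Mono (n • 𝟙 (CohCx.freeSheaf J U)) := fun U => by
    let P := yoneda.obj U ⋙ AddCommGrpCat.free.{u}
    have : ∀ X, Mono ((n • 𝟙 P : P ⟶ P).app X) := fun X => by
      rw [AddCommGrpCat.mono_iff_injective]
      intro a b hab
      rw [NatTrans.app_nsmul] at hab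
      change n • a = n • b at hab
      apply (FreeAbelianGroup.equivFinsupp ((yoneda.obj U).obj X)).injective
      have h := congrArg (FreeAbelianGroup.equivFinsupp ((yoneda.obj U).obj X)) hab
      erw [map_nsmul, map_nsmul] at h
      exact nsmul_right_injective hn h
    have : Mono (n • 𝟙 P : P ⟶ P) := NatTrans.mono_of_mono_app _
    have h : (presheafToSheaf J AddCommGrpCat.{u}).map (n • 𝟙 P) = n • 𝟙 (CohCx.freeSheaf J U) := by
      rw [Functor.map_nsmul, CategoryTheory.Functor.map_id]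
    rw [← h]
    infer_instance
  refine Preadditive.epi_of_cancel_zero _ fun {T} g hg => ?_
  apply Sheaf.hom_ext
  ext U s
  let e := fun F : Sheaf J AddCommGrpCat.{u} => Groth.Agent.SiteCoh.Free.sectionEquiv J U.unop F
  have := hmono U.unop
  let a : CohCx.freeSheaf J U.unop ⟶ I := Injective.factorThru ((e I).symm s) (n • 𝟙 (CohCx.freeSheaf J U.unop))
  have ha : n • a = (e I).symm s := by
    have h := Injective.comp_factorThru ((e I).symm s) (n • 𝟙 (CohCx.freeSheaf J U.unop))
    rwa [Preadditive.nsmul_comp, Category.id_comp] at h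
  rw [Preadditive.nsmul_comp, Category.id_comp] at hg
  have h0 : (e I).symm s ≫ g = 0 := by
    rw [← ha, Preadditive.nsmul_comp, ← Preadditive.comp_nsmul, hg, comp_zero]
  have h1 := Groth.Agent.SiteCoh.Free.sectionEquiv_comp J ((e I).symm s) g
  rw [h0, map_zero, AddEquiv.apply_symm_apply] at h1
  exact h1.symm

variable (F : Sheaf J AddCommGrpCat.{u})

theorem mono_nsmul_quotient (n : ℕ) (hn : n ≠ 0) : Mono (n • 𝟙 (cokernel (incl J F))) := by
  refine Preadditive.mono_of_cancel_zero _ fun {W} z hz => ?_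
  obtain ⟨W', p, hp, x, hx⟩ := surjective_up_to_refinements_of_epi (cokernel.π (incl J F)) z
  rw [← cancel_epi p, comp_zero]
  have hx0 : (n • x) ≫ cokernel.π (incl J F) = 0 := by
    rw [Preadditive.nsmul_comp, ← hx, ← Preadditive.comp_nsmul]
    rw [Preadditive.comp_nsmul, Category.comp_id] at hz
    rw [hz, comp_zero]
  let w : W' ⟶ torsSheaf J F :=
    (ShortComplex.exact_cokernel (incl J F)).lift (n • x) hx0
  have hw : w ≫ incl J F = n • x := (ShortComplex.exact_cokernel (incl J F)).lift_f _ _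
  have hmem : ∀ (U : Cᵒᵖ) (s : W'.obj.obj U), (x.hom.app U).hom s ∈ torsAt J F U := fun U s => by
    obtain ⟨S, hS, hS'⟩ := ((w.hom.app U).hom s).2
    refine ⟨S, hS, fun V g hg => ?_⟩
    have h1 : ((w.hom.app U).hom s).1 = n • (x.hom.app U).hom s :=
      ConcreteCategory.congr_hom (NatTrans.congr_app (congrArg (·.hom) hw) U) s
    have h2 := hS' g hg
    rw [h1, map_nsmul] at h2
    exact h2.of_nsmul hn
  let x' : W' ⟶ torsSheaf J F :=
    ⟨{ app := fun U => AddCommGrpCat.ofHom ((x.hom.app U).hom.codRestrict _ (hmem U))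
       naturality := fun U V f => by
         ext s
         exact Subtype.ext (ConcreteCategory.congr_hom (x.hom.naturality f) s) }⟩
  rw [hx, show x = x' ≫ incl J F from rfl, Category.assoc, cokernel.condition, comp_zero]

theorem isZero_of_torsion_of_mono_nsmul (H : Sheaf J AddCommGrpCat.{u}) (hH : SiteCmp.torsionSh J H)
    (h : ∀ n : ℕ, n ≠ 0 → Mono (n • 𝟙 H)) : IsZero H := by
  rw [IsZero.iff_id_eq_zero]
  apply Sheaf.hom_ext
  ext U s
  obtain ⟨S, hS, hS'⟩ := hH U.unop s
  have hs : Presieve.IsSeparated J (H.obj ⋙ forget AddCommGrpCat.{u}) :=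
    ((isSheaf_iff_isSheaf_of_type J _).1 (Presheaf.isSheaf_comp_of_isSheaf J H.obj (forget _) H.property)).isSeparated
  refine (hs S hS).ext fun V g hg => ?_
  obtain ⟨n, hn, hn'⟩ := (isOfFinAddOrder_iff_nsmul_eq_zero).1 (hS' g hg)
  have := h n (by omega)
  have : Mono ((n • 𝟙 H).hom.app (op V)) :=
    inferInstanceAs (Mono (((sheafToPresheaf J _).map (n • 𝟙 H)).app (op V)))
  have hz : ((H.obj.map g.op).hom s) = 0 := by
    refine (AddCommGrpCat.mono_iff_injective _).1 this ?_
    rw [map_zero]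
    exact hn'
  exact hz.trans (map_zero (H.obj.map g.op).hom).symm

end Divisible

end Groth.Agent.SitePull.Tors
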